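import Cfsg.Agent.Lib.HSRec.Cert.Model

/-!
The coded centraliser and the exchanging element generate the group of the graph.
-/

set_option autoImplicit false
set_option maxRecDepth 100000
set_option Elab.async false

namespace CfsgLib.HSRec.Cert

open CfsgLib.Golay CfsgLib.CodeCert

/-- Each point comes from one seen before. -/
def reachOk : List (ℕ × ℕ × ℕ) → List ℕ → Bool
  | [], seen => (List.range 100).all fun i => seen.contains i
  | (u, v, g) :: rest, seen =>
    seen.contains v && letters.contains g && Nat.beq (pApp g v) u && reachOk rest (u :: seen)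

theorem reach_check : reachOk orbTree [0] = true := by decide +kernel

theorem order_check : (sameW (word7 ++ word7 ++ word7 ++ word7 ++ word7 ++ word7 ++ word7) [] &&
    sameW (word11 ++ word11 ++ word11 ++ word11 ++ word11 ++ word11 ++ word11 ++ word11 ++ word11 ++ word11 ++ word11) [] &&
    sameW (word3a ++ word3a ++ word3a) [] && sameW (word3b ++ word3b ++ word3b) [] &&
    sameW (word3a ++ word3b) (word3b ++ word3a) && !(sameW word7 []) && !(sameW word11 []) && !(sameW word3a []) &&
    !(sameW word3b []) && !(sameW word3b word3a) && !(sameW word3b (word3a ++ word3a)) &&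
    [word7, word11, word3a, word3b].all (fun w => w.all fun g => letters.contains g)) = true := by
  decide +kernel

theorem gen_words : qGens.all (fun g => decide (hWord g = [g])) = true ∧ hWord 64 = [64] ∧ hWord 128 = [128] := by
  decide +kernel

/-- The subgroup generated by the coded centraliser and the exchanging element. -/
noncomputable def KM : Subgroup ↥HS.hsGroup := Subgroup.closure (CodeCert.Sys.gensSet fullD elM (fun _ => nM))

theorem elM_mem {c : ℕ} (hc : c < 7680) : elM c ∈ KM := Subgroup.subset_closure (Or.inl ⟨c, hc, rfl⟩)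

theorem vM_mem {g : ℕ} (hg : g ∈ letters) : vM g ∈ KM := by
  have key : ∀ c, c < 7680 → hWord c = [g] → vM g ∈ KM := fun c hc e => by
    have := elM_mem hc
    rwa [elM_eq, e, wM_single] at this
  obtain ⟨h1, h64, h128⟩ := gen_words
  have hq : ∀ x ∈ qGens, hWord x = [x] := fun x hx => of_decide_eq_true (List.all_eq_true.1 h1 x hx)
  simp only [letters, List.mem_cons, List.not_mem_nil, or_false] at hg
  rcases hg with rfl | rfl | rfl | rfl | rfl | rfl | rfl | rfl
  · exact key 1 (by norm_num) (hq 1 (by decide))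
  · exact key 2 (by norm_num) (hq 2 (by decide))
  · exact key 4 (by norm_num) (hq 4 (by decide))
  · exact key 8 (by norm_num) (hq 8 (by decide))
  · exact key 16 (by norm_num) (hq 16 (by decide))
  · exact key 64 (by norm_num) h64
  · exact key 128 (by norm_num) h128
  · exact Subgroup.subset_closure (Or.inr ⟨0, Nat.one_pos, rfl⟩)

theorem wM_mem : ∀ {w : List ℕ}, (∀ g ∈ w, g ∈ letters) → wM w ∈ KM
  | [], _ => KM.one_mem
  | g :: w, hw => by
    show vM g * wM w ∈ KM
    exact KM.mul_mem (vM_mem (hw g (List.mem_cons_self ..))) (wM_mem fun x hx => hw x (List.mem_cons_of_mem _ hx))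

/-- Can the point be reached from the first one inside the generated subgroup? -/
def Reached (i : ℕ) : Prop := ∃ g ∈ KM, (g.val (0 : Fin 100)).val = i

theorem reached_all : ∀ (l : List (ℕ × ℕ × ℕ)) (seen : List ℕ), (∀ i ∈ seen, Reached i) → reachOk l seen = true →
    ∀ i < 100, Reached i
  | [], seen, hs, h, i, hi => by
    simp only [reachOk, List.all_eq_true, List.mem_range, List.contains_iff_mem] at h
    exact hs i (h i hi)
  | (u, v, g) :: rest, seen, hs, h, i, hi => by
    simp only [reachOk, Bool.and_eq_true, List.contains_iff_mem] at h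
    obtain ⟨⟨⟨hv, hg⟩, hu⟩, hrest⟩ := h
    refine reached_all rest (u :: seen) (fun j hj => ?_) hrest i hi
    rcases List.mem_cons.1 hj with rfl | hj
    · obtain ⟨k, hk, rfl⟩ := hs v hv
      refine ⟨vM g * k, KM.mul_mem (vM_mem hg) hk, ?_⟩
      show (permV g (k.val 0)).val = _
      rw [permV_val hg, Nat.eq_of_beq_eq_true hu]
    · exact hs j hj

theorem hundred_dvd : 100 ∣ Nat.card ↥KM := by
  have hz : ∀ j : Fin 100, ∃ g ∈ KM, g.val (0 : Fin 100) = j := fun j => by
    obtain ⟨g, hg, e⟩ := reached_all orbTree [0] (fun i hi => by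
      obtain rfl := List.mem_singleton.1 hi
      exact ⟨1, KM.one_mem, rfl⟩) reach_check j.val j.isLt
    exact ⟨g, hg, Fin.ext e⟩
  haveI : MulAction.IsPretransitive ↥KM (Fin 100) := by
    refine ⟨fun i j => ?_⟩
    obtain ⟨a, ha, ea⟩ := hz i
    obtain ⟨b, hb, eb⟩ := hz j
    refine ⟨⟨b * a⁻¹, KM.mul_mem hb (KM.inv_mem ha)⟩, ?_⟩
    show (b * a⁻¹).val i = j
    rw [← ea, ← eb]
    simp
  have h := (MulAction.stabilizer ↥KM (0 : Fin 100)).index_dvd_card
  rwa [MulAction.index_stabilizer_of_transitive, Nat.card_fin] at h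

theorem prime_dvd {p : ℕ} (hp : p.Prime) (w : List ℕ) (hw : ∀ g ∈ w, g ∈ letters) (h1 : wM w ^ p = 1)
    (h2 : wM w ≠ 1) : p ∣ Nat.card ↥KM := by
  haveI := Fact.mk hp
  have h : orderOf (⟨wM w, wM_mem hw⟩ : ↥KM) = p :=
    orderOf_eq_prime (Subtype.ext h1) (fun e => h2 (congrArg Subtype.val e))
  rw [← h]
  exact orderOf_dvd_natCard _

theorem ne_of_not_same {u v : List ℕ} (hu : ∀ g ∈ u, g ∈ letters) (hv : ∀ g ∈ v, g ∈ letters)
    (h : sameW u v = false) : wM u ≠ wM v := by
  intro e
  have h' : sameW u v = true := by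
    simp only [sameW, Bool.and_eq_true, List.all_eq_true, List.contains_iff_mem, List.mem_range]
    refine ⟨⟨hu, hv⟩, fun i hi => ?_⟩
    rw [← wM_val u hu ⟨i, hi⟩, ← wM_val v hv ⟨i, hi⟩, e, Nat.beq_refl]
  rw [h'] at h
  exact Bool.noConfusion h

theorem pair_dvd {M : Type*} [Group M] [Finite M] (K : Subgroup M) {a b : M} (ha : a ∈ K) (hb : b ∈ K)
    (ha3 : a ^ 3 = 1) (hb3 : b ^ 3 = 1) (hab : a * b = b * a) (a1 : a ≠ 1) (b1 : b ≠ 1) (ba : b ≠ a)
    (ba2 : b ≠ a * a) : 9 ∣ Nat.card ↥K := by
  have hle : Subgroup.closure ({a, b} : Set M) ≤ K := by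
    rw [Subgroup.closure_le]
    rintro x (rfl | rfl)
    exacts [ha, hb]
  have hP : IsPGroup 3 ↥(Subgroup.closure ({a, b} : Set M)) := by
    rintro ⟨x, hx⟩
    refine ⟨1, Subtype.ext ?_⟩
    show x ^ (3 ^ 1) = 1
    rw [pow_one]
    suffices h : x ^ 3 = 1 ∧ Commute x a ∧ Commute x b from h.1
    induction hx using Subgroup.closure_induction with
    | mem y hy =>
      rcases hy with rfl | rfl
      exacts [⟨ha3, Commute.refl _, hab⟩, ⟨hb3, hab.symm, Commute.refl _⟩]
    | one => exact ⟨one_pow 3, Commute.one_left _, Commute.one_left _⟩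
    | mul y z hy hz ihy ihz =>
      refine ⟨?_, ihy.2.1.mul_left ihz.2.1, ihy.2.2.mul_left ihz.2.2⟩
      have hyz : Commute y z := by
        have : z ∈ Subgroup.centralizer ({y} : Set M) := by
          refine (Subgroup.closure_le _).2 ?_ hz
          rintro w (rfl | rfl)
          exacts [Subgroup.mem_centralizer_singleton_iff.2 ihy.2.1.symm.eq,
            Subgroup.mem_centralizer_singleton_iff.2 ihy.2.2.symm.eq]
        exact (Subgroup.mem_centralizer_singleton_iff.1 this).symm
      rw [hyz.mul_pow, ihy.1, ihz.1, one_mul]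
    | inv y _ ihy => exact ⟨by rw [inv_pow, ihy.1, inv_one], ihy.2.1.inv_left, ihy.2.2.inv_left⟩
  haveI := Fact.mk (show Nat.Prime 3 by norm_num)
  obtain ⟨k, hk⟩ := IsPGroup.iff_card.1 hP
  have hfour : 4 ≤ Nat.card ↥(Subgroup.closure ({a, b} : Set M)) := by
    have ha' : a ∈ Subgroup.closure ({a, b} : Set M) := Subgroup.subset_closure (Or.inl rfl)
    have hb' : b ∈ Subgroup.closure ({a, b} : Set M) := Subgroup.subset_closure (Or.inr rfl)
    have haa : a * a ≠ 1 := fun e => a1 (by
      have := ha3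
      rw [pow_succ, pow_two, e, one_mul] at this
      exact this)
    have haa' : a * a ≠ a := fun e => a1 (mul_eq_left.1 e)
    let f : Fin 4 → ↥(Subgroup.closure ({a, b} : Set M)) :=
      ![1, ⟨a, ha'⟩, ⟨a * a, mul_mem ha' ha'⟩, ⟨b, hb'⟩]
    have hf : Function.Injective f := by
      intro i j h
      have h' := congrArg Subtype.val h
      fin_cases i <;> fin_cases j <;>
        first
          | rfl
          | (simp only [f, Fin.reduceFinMk, Matrix.cons_val, Subgroup.coe_one] at h'
             first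
               | exact absurd h' a1.symm | exact absurd h' a1 | exact absurd h' haa.symm | exact absurd h' haa
               | exact absurd h' b1.symm | exact absurd h' b1 | exact absurd h' haa'.symm | exact absurd h' haa'
               | exact absurd h' ba.symm | exact absurd h' ba | exact absurd h' ba2.symm | exact absurd h' ba2)
    have := Nat.card_le_card_of_injective f hf
    rwa [Nat.card_fin] at this
  have h9 : 9 ∣ Nat.card ↥(Subgroup.closure ({a, b} : Set M)) := by
    rw [hk] at hfour ⊢
    rcases k with _ | _ | k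
    · omega
    · omega
    · exact Dvd.intro (3 ^ k) (by ring)
  exact h9.trans (Subgroup.card_dvd_of_le hle)

theorem code_dvd : 7680 ∣ Nat.card ↥KM := by
  let S : Submonoid ↥HS.hsGroup :=
    { carrier := elM '' Set.Iio 7680
      one_mem' := ⟨0, by show 0 < 7680; norm_num, sysM.one⟩
      mul_mem' := by
        rintro _ _ ⟨c, hc, rfl⟩ ⟨d, hd, rfl⟩
        exact ⟨hMul c d, (rulesM.el_mul hc hd).1, (rulesM.el_mul hc hd).2.symm⟩ }
  let H : Subgroup ↥HS.hsGroup :=
    { S with
      inv_mem' := fun {x} hx => by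
        have h1 : x ^ (orderOf x - 1) = x⁻¹ := eq_inv_of_mul_eq_one_left (by
          rw [← pow_succ, Nat.sub_add_cancel (orderOf_pos x), pow_orderOf_eq_one])
        rw [← h1]
        exact S.pow_mem hx _ }
  have hcard : Nat.card ↥H = 7680 := by
    show Nat.card ↑(elM '' Set.Iio 7680) = 7680
    rw [Nat.card_coe_set_eq, Set.ncard_image_of_injOn (show Set.InjOn elM (Set.Iio 7680) from fun c hc d hd => elM_inj hc hd),
      Set.ncard_Iio_nat]
  have hle : H ≤ KM := by
    rintro _ ⟨c, hc, rfl⟩
    exact elM_mem hc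
  have h := Subgroup.card_dvd_of_le hle
  rwa [hcard] at h

theorem KM_top : KM = ⊤ := by
  have hc := order_check
  simp only [Bool.and_eq_true, Bool.not_eq_true', List.all_eq_true, List.contains_iff_mem] at hc
  obtain ⟨⟨⟨⟨⟨⟨⟨⟨⟨⟨⟨c7, c11⟩, ca⟩, cb⟩, cab⟩, n7⟩, n11⟩, na⟩, nb⟩, nba⟩, nbaa⟩, hl⟩ := hc
  have l7 := hl word7 (by simp)
  have l11 := hl word11 (by simp)
  have la := hl word3a (by simp)
  have lb := hl word3b (by simp)
  have e7 : wM word7 ^ 7 = 1 := by
    rw [show (1 : ↥HS.hsGroup) = wM [] from rfl, ← wM_eq c7]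
    simp only [wM_append, pow_succ, pow_zero, one_mul]
  have e11 : wM word11 ^ 11 = 1 := by
    rw [show (1 : ↥HS.hsGroup) = wM [] from rfl, ← wM_eq c11]
    simp only [wM_append, pow_succ, pow_zero, one_mul]
  have ea : wM word3a ^ 3 = 1 := by
    rw [show (1 : ↥HS.hsGroup) = wM [] from rfl, ← wM_eq ca]
    simp only [wM_append, pow_succ, pow_zero, one_mul]
  have eb : wM word3b ^ 3 = 1 := by
    rw [show (1 : ↥HS.hsGroup) = wM [] from rfl, ← wM_eq cb]
    simp only [wM_append, pow_succ, pow_zero, one_mul]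
  have eab : wM word3a * wM word3b = wM word3b * wM word3a := by
    rw [← wM_append, ← wM_append]; exact wM_eq cab
  have hnil : ∀ g ∈ ([] : List ℕ), g ∈ letters := by simp
  have d7 := prime_dvd (by norm_num) word7 l7 e7 (ne_of_not_same l7 hnil n7)
  have d11 := prime_dvd (by norm_num) word11 l11 e11 (ne_of_not_same l11 hnil n11)
  have d9 := pair_dvd KM (wM_mem la) (wM_mem lb) ea eb eab (ne_of_not_same la hnil na) (ne_of_not_same lb hnil nb)
    (ne_of_not_same lb la nba)
    (by
      rw [← wM_append]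
      exact ne_of_not_same lb (by intro g hg; rcases List.mem_append.1 hg with h | h <;> exact la g h) nbaa)
  have d1 := code_dvd
  have d2 := hundred_dvd
  have hd : 8870400 ∣ Nat.card ↥KM := by
    have : Nat.lcm (Nat.lcm (Nat.lcm (Nat.lcm 7680 100) 7) 11) 9 ∣ Nat.card ↥KM :=
      Nat.lcm_dvd (Nat.lcm_dvd (Nat.lcm_dvd (Nat.lcm_dvd d1 d2) d7) d11) d9
    exact (show 8870400 ∣ Nat.lcm (Nat.lcm (Nat.lcm (Nat.lcm 7680 100) 7) 11) 9 by norm_num [Nat.lcm]).trans this
  have hidx : KM.index ≤ 5 := by
    have h := Subgroup.index_mul_card KM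
    rw [HS.card_hsGroup] at h
    have hpos : 0 < Nat.card ↥KM := Nat.card_pos
    obtain ⟨q, hq⟩ := hd
    rw [hq] at h hpos
    have hq0 : 0 < q := Nat.pos_of_mul_pos_left hpos
    have h' : KM.index * q = 5 := by
      have e : KM.index * q * 8870400 = 5 * 8870400 := by rw [show 5 * 8870400 = 44352000 by norm_num, ← h]; ring
      exact Nat.eq_of_mul_eq_mul_right (by norm_num) e
    exact h' ▸ Nat.le_mul_of_pos_right _ hq0
  by_contra hne
  haveI := HS.hs_simple
  have hcore : KM.normalCore = ⊥ := (KM.normalCore_normal.eq_bot_or_eq_top).resolve_right fun h =>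
    hne (top_le_iff.1 (h ▸ KM.normalCore_le))
  have hinj : Function.Injective (MulAction.toPermHom ↥HS.hsGroup (↥HS.hsGroup ⧸ KM)) :=
    (MonoidHom.ker_eq_bot_iff _).1 (by rw [← Subgroup.normalCore_eq_ker, hcore])
  have := Nat.card_le_card_of_injective _ hinj
  rw [HS.card_hsGroup, Nat.card_perm, ← Subgroup.index] at this
  have h5 := Nat.factorial_le hidx
  rw [show Nat.factorial 5 = 120 from rfl] at h5
  omega

end CfsgLib.HSRec.Cert
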