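import Cfsg.Agent.Lib.HSRec.Basic
import Cfsg.Agent.Lib.CodeCert.Check

/-!
The words of the codes of the centraliser in seven generators.
-/

set_option autoImplicit false

namespace CfsgLib.HSRec.Cert

/-- The generating word of a code. -/
def hWord (c : ℕ) : List ℕ :=
  (([(0, 1), (1, 2), (2, 4), (3, 8)] : List (ℕ × ℕ)).filterMap fun p => if (c % 64).testBit p.1 then some p.2 else none) ++
    List.replicate (c % 64 / 16) 16 ++ wordT.getD (c / 64) []

end CfsgLib.HSRec.Cert
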