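import Cfsg.Agent.Lib.HSRec.Cert.Alg
import Cfsg.Agent.Lib.HSRec.Cert.DTab

/-!
Finite facts about the codes behind the relations of the completion.
-/

set_option autoImplicit false
set_option maxRecDepth 100000
set_option Elab.async false

namespace CfsgLib.HSRec.Cert

/-- The pair of codes of a word in the generating pairs. -/
def dWordVal : List ℕ → ℕ × ℕ
  | [] => (0, 0)
  | g :: w => (hMul (dPairs.getD g (0, 0)).1 (dWordVal w).1, hMul (dPairs.getD g (0, 0)).2 (dWordVal w).2)

/-- Is `(a, b)` an entry of the table? -/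
def inTab (a b : ℕ) : Bool := dTab.any fun e => Nat.beq e.1 a && Nat.beq e.2.1 b

/-- The first codes of the three paths. -/
def pathP : List ℕ := [1024, 576, 64]

/-- The last codes of the three paths. -/
def pathQ : List ℕ := [0, 64, 834]

/-- One move of a code across a path: `(i, j, k, a, b, c, z)` says `g i * k = z * g j`. -/
def entries : List (ℕ × ℕ × ℕ × ℕ × ℕ × ℕ × ℕ) :=
  [(0, 0, 2825, 2825, 29, 1, 32), (1, 1, 2825, 2857, 28, 1, 32), (2, 2, 2825, 3139, 9, 1, 32),
   (0, 0, 32, 32, 1, 28, 2857), (1, 1, 32, 32, 1, 40, 3170), (2, 2, 32, 32, 1, 9, 3139),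
   (0, 0, 1, 1, 32, 32, 1), (1, 1, 1, 9, 3139, 2856, 60), (2, 2, 1, 28, 2857, 2825, 29),
   (0, 0, 8, 8, 3171, 3139, 9), (1, 1, 8, 8, 3171, 2824, 61), (2, 2, 8, 1, 32, 32, 1),
   (0, 2, 2564, 6603, 941, 3889, 3860), (1, 0, 2564, 3159, 5705, 953, 6483), (2, 1, 2564, 945, 3876, 5696, 53),
   (0, 1, 80, 16, 5733, 933, 929), (1, 0, 80, 48, 5732, 896, 900), (2, 2, 80, 2864, 2864, 2872, 5752)]

/-- The check of one move. -/
def entryOk : ℕ × ℕ × ℕ × ℕ × ℕ × ℕ × ℕ → Bool
  | (i, j, k, a, b, c, z) =>
    Nat.blt i 3 && Nat.blt j 3 && Nat.blt k 7680 && Nat.blt a 7680 && Nat.blt b 7680 && Nat.blt c 7680 &&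
      Nat.blt z 7680 && inTab a b && inTab c z &&
      Nat.beq (hMul (pathQ.getD i 0) k) (hMul a (pathQ.getD j 0)) &&
      Nat.beq (hMul (pathP.getD i 0) b) (hMul c (pathP.getD j 0))

theorem entries_ok : entries.all entryOk = true := by decide +kernel

theorem dTab_ok : dTab.all (fun e => decide (dWordVal e.2.2 = (e.1, e.2.1))) = true := by decide +kernel

theorem dTab_complete : (List.range 7680).all (fun c =>
    !(Nat.beq (hMul c 1) (hMul 1 c)) || dTab.any fun e => Nat.beq e.1 c) = true := by decide +kernel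

/-- The three false values at the triangle and the right one. -/
def triVals : List ℕ := [0, 37, 901, 928]

theorem tri_cand : dTab.all (fun e =>
    !(Nat.beq e.2.1 (hMul (hMul 1482 e.1) 283)) || triVals.contains e.1) = true := by decide +kernel

/-- The conditions on the first loop value. -/
def loopFirst : List ℕ := [598, 599, 606, 607, 630, 631, 638, 639, 5506, 5507, 5514, 5515, 5538, 5539, 5546, 5547]

theorem loop_first : (List.range 7680).all (fun c =>
    !(Nat.beq (hMul 2857 c) (hMul c 3170) && Nat.beq (hMul 1 c) (hMul c 60) && Nat.beq (hMul 9 c) (hMul c 61)) ||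
      loopFirst.contains c) = true := by decide +kernel

/-- The conditions on the second loop value. -/
def loopSecond : List ℕ :=
  [4550, 4551, 4570, 4571, 4582, 4583, 4602, 4603, 5572, 5573, 5592, 5593, 5604, 5605, 5624, 5625]

theorem loop_second : (List.range 7680).all (fun c =>
    !(Nat.beq (hMul 3170 c) (hMul c 3139) && Nat.beq (hMul 60 c) (hMul c 29) && Nat.beq (hMul 61 c) (hMul c 1)) ||
      loopSecond.contains c) = true := by decide +kernel

/-- The conditions from the symmetries of the paths. -/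
def loopPair (a b : ℕ) : Bool :=
  Nat.beq 3860 (hMul (hMul a 6483) (hMul a b)) && Nat.beq (hMul b 53) (hMul 6483 a) &&
    Nat.beq 929 (hMul (hMul a 900) a) && Nat.beq (hMul b 5752) (hMul 900 (hMul a b))

theorem loop_pair : loopFirst.all (fun a => loopSecond.all fun b =>
    !(loopPair a b) || (Nat.beq a 5506 || Nat.beq a 5515)) = true := by decide +kernel

end CfsgLib.HSRec.Cert
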