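import Cfsg.Agent.Lib.CodeCert.Check

/-!
Generated data of a certificate.
-/

set_option autoImplicit false
set_option maxRecDepth 100000

namespace CfsgLib.HSRec.Cert.Full

open CfsgLib.CodeCert

/-- Generating codes. -/
def gens : List ℕ := [1, 2, 4, 8, 16, 64, 128]

/-- The generators of the normalised subgroup with their images. -/
def dgens : List (List (ℕ × ℕ)) := [[(904, 6638), (2816, 3166), (8, 3171)]]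

/-- The relations. -/
def rels : List (List Tok) := [
  [.s 0, .s 0],
  [.s 0, .c 911, .s 0, .c 911, .s 0, .c 911],
  [.s 0, .c 1482, .s 0, .c 1482, .s 0, .c 1482],
  [.s 0, .c 1024, .s 0, .c 64, .s 0, .c 832, .s 0, .c 1339]]

/-- The words of the nodes. -/
def defs : List (ℕ × ℕ × ℕ) := [
  (0, 0, 0), (0, 850, 1), (0, 1583, 1), (0, 1043, 2), (0, 5123, 3), (0, 6980, 3), (0, 1068, 5), (0, 671, 6)]

/-- Part 0 of the identities. -/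
def facts0 : List (Concl × Why) := [
  (.pair 0 1 1, .def'),
  (.pair 0 2 2, .def'),
  (.pair 0 4 4, .def'),
  (.pair 0 8 8, .def'),
  (.pair 0 16 16, .def'),
  (.pair 0 64 64, .def'),
  (.pair 0 128 128, .def'),
  (.edge 0 0 0 0 1 0, .def'),
  (.edge 0 0 1 0 0 0, .walk ⟨0, 0, 0⟩ [.ext 0 7 [] []] [] (some (0, 0))),
  (.pair 1 32 1, .walk ⟨1, 0, 0⟩ [.ext 0 7 [] [0]] [.ext 0 7 [0, 1, 0, 1, 0, 1, 0, 1] []] none),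
  (.pair 1 4 4, .walk ⟨4, 0, 0⟩ [.ext 0 7 [] [2]] [.ext 0 7 [1, 2, 0, 2, 0, 1] []] none),
  (.pair 1 3171 8, .walk ⟨8, 0, 0⟩ [.ext 0 7 [] [3]] [.ext 0 7 [2] []] none),
  (.pair 1 5733 16, .walk ⟨16, 0, 0⟩ [.ext 0 7 [] [4]] [.ext 0 7 [0, 0, 0, 1, 0, 1, 0, 1, 0, 1] []] none),
  (.pair 1 41 3138, .walk ⟨384, 0, 0⟩ [.ext 0 7 [] [5, 6, 5]] [.ext 0 7 [0, 0, 2, 0, 1, 2, 0, 2] [5, 6]] none),
  (.pair 1 900 896, .walk ⟨512, 0, 0⟩ [.ext 0 7 [] [6, 5, 6]] [.ext 0 7 [2, 0] [5]] none),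
  (.edge 0 3180 1 911 1 2, .walk ⟨911, 1, 0⟩ [.code 911, .ext 0 8 [] [], .code 911, .ext 0 7 [0, 0, 0, 0, 2, 0, 2] [1], .code 911] [] (some (1, 2))),
  (.edge 0 4018 1 283 1 1481, .walk ⟨283, 1, 0⟩ [.code 1482, .ext 0 8 [] [], .code 1482, .ext 0 7 [2, 0, 2] [1, 6, 5], .code 1482] [] (some (2, 2))),
  (.edge 0 850 1 0 2 0, .def'),
  (.edge 0 0 2 850 1 0, .walk ⟨850, 1, 0⟩ [.ext 0 17 [] []] [] (some (0, 0))),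
  (.pair 2 1 1, .walk ⟨882, 1, 0⟩ [.ext 0 17 [] [9]] [.ext 0 17 [0, 0, 0, 0] []] none),
  (.pair 2 2824 3138, .walk ⟨847, 1, 0⟩ [.ext 0 17 [] [13]] [.ext 0 17 [0, 0, 1, 0, 2, 0, 1] []] none),
  (.pair 2 2848 60, .walk ⟨6424, 1, 0⟩ [.ext 0 17 [] [10, 11]] [.ext 0 17 [0, 0, 0, 1, 0] [12]] none),
  (.pair 2 9 28, .walk ⟨5362, 1, 0⟩ [.ext 0 17 [] [10, 12]] [.ext 0 17 [0, 1, 0, 0, 2, 0] [11]] none),
  (.pair 2 3142 2828, .walk ⟨3482, 1, 0⟩ [.ext 0 17 [] [14, 13]] [.ext 0 17 [2, 0, 2, 0, 2] [10, 14]] none),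
  (.pair 2 3441 3464, .walk ⟨48, 2, 896⟩ [.ext 0 18 [0, 1, 0, 0, 0, 1, 0, 1, 0, 1] [], .code 1024, .ext 0 8 [0, 1, 0, 0, 0, 2, 0, 1] [], .code 1339, .ext 0 7 [0, 1, 2, 0, 2, 0, 2] [6, 6, 5], .code 832, .ext 0 17 [0, 0, 0, 2, 0] [11, 14], .code 64] [] (some (3, 3))),
  (.edge 0 6423 2 3407 2 50, .walk ⟨3407, 2, 18⟩ [.code 64, .ext 0 18 [0, 0, 0, 2, 0, 1] [], .code 1024, .ext 0 15 [0, 0, 1, 0] [], .code 1339, .ext 0 17 [0, 0, 0, 0, 0, 1, 0] [12], .code 832] [] (some (3, 4))),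
  (.edge 0 1583 1 0 3 0, .def'),
  (.edge 0 0 3 1583 1 0, .walk ⟨1583, 1, 0⟩ [.ext 0 26 [] []] [] (some (0, 0))),
  (.pair 3 1 1, .walk ⟨1551, 1, 0⟩ [.ext 0 26 [] [9]] [.ext 0 26 [0, 0, 0, 0] []] none),
  (.pair 3 2857 4, .walk ⟨1555, 1, 0⟩ [.ext 0 26 [] [10]] [.ext 0 26 [0, 0, 0, 2, 0] []] none),
  (.pair 3 5 3138, .walk ⟨1547, 1, 0⟩ [.ext 0 26 [] [13]] [.ext 0 26 [1, 0, 2, 0, 1, 2] []] none),
  (.pair 3 3171 2825, .walk ⟨6129, 1, 0⟩ [.ext 0 26 [] [14, 13]] [.ext 0 26 [2] [14]] none),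
  (.edge 0 1487 3 1518 2 3154, .walk ⟨1518, 2, 16⟩ [.code 1482, .ext 0 18 [0, 1, 2, 0, 2, 0, 1, 2] [], .code 1482, .ext 0 26 [1, 0, 2, 0, 1, 2] [12, 13], .code 1482] [] (some (2, 2))),
  (.edge 0 1518 2 1487 3 3154, .walk ⟨1487, 3, 0⟩ [.ext 0 32 [] []] [] (some (0, 0))),
  (.edge 0 942 3 2850 3 32, .walk ⟨2850, 3, 32⟩ [.code 911, .ext 0 27 [2, 0, 1, 2] [], .code 911, .ext 0 26 [0, 0, 0, 0] [12, 12], .code 911] [] (some (1, 2))),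
  (.edge 0 3401 3 1470 3 282, .walk ⟨1470, 3, 32⟩ [.code 1024, .ext 0 27 [2, 0, 1, 2] [], .code 1339, .ext 0 16 [0, 0, 0, 0, 0, 1, 2] [11], .code 832, .ext 0 26 [1, 0, 0, 0, 1, 0, 1] [12], .code 64] [] (some (3, 2))),
  (.edge 0 5246 3 2202 3 60, .walk ⟨2202, 3, 912⟩ [.code 1482, .ext 0 27 [0, 1, 0, 0, 0, 2, 0] [], .code 1482, .ext 0 26 [0, 0, 2, 0, 1, 2, 0, 2, 0] [11, 10, 12], .code 1482] [] (some (2, 2))),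
  (.edge 0 1043 2 0 4 0, .def'),
  (.edge 0 0 4 1043 2 0, .walk ⟨1043, 2, 0⟩ [.ext 0 37 [] []] [] (some (0, 0))),
  (.pair 4 2857 1, .walk ⟨1071, 2, 0⟩ [.ext 0 37 [] [19]] [.ext 0 37 [0, 0, 0, 2, 0] []] none),
  (.pair 4 3183 2865, .walk ⟨2474, 2, 0⟩ [.ext 0 37 [] [23]] [.ext 0 37 [0, 1, 0] [22]] none),
  (.pair 4 2856 3170, .walk ⟨1037, 2, 0⟩ [.ext 0 37 [] [20, 21]] [.ext 0 37 [0, 0, 2, 0, 2, 0, 2] [22]] none),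
  (.edge 0 3425 4 4601 3 913, .walk ⟨4601, 3, 940⟩ [.code 1024, .ext 0 27 [2, 0, 1, 2, 0] [], .code 1339, .ext 0 17 [0, 1, 0, 1, 0, 1] [11, 14], .code 832, .ext 0 37 [0, 0, 0, 2, 0] [22], .code 64] [] (some (3, 2))),
  (.edge 0 4601 3 3425 4 916, .walk ⟨3425, 4, 0⟩ [.ext 0 42 [] []] [] (some (0, 0))),
  (.edge 0 5123 3 0 5 0, .def'),
  (.edge 0 0 5 5123 3 0, .walk ⟨5123, 3, 0⟩ [.ext 0 44 [] []] [] (some (0, 0))),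
  (.pair 5 2857 3139, .walk ⟨5136, 3, 0⟩ [.ext 0 44 [] [30]] [.ext 0 44 [0, 0, 0, 2, 0] [28]] none),
  (.pair 5 80 3464, .walk ⟨48, 5, 5824⟩ [.ext 0 45 [0, 1, 0, 0, 0, 1, 0, 1, 0, 1] [], .code 1024, .ext 0 32 [0, 2, 0, 1, 2, 0] [], .code 1339, .ext 0 33 [0, 0, 0, 0, 0, 1, 0] [21, 24], .code 832, .ext 0 44 [] [28], .code 64] [] (some (3, 3))),
  (.edge 0 6980 3 0 6 0, .def'),
  (.edge 0 0 6 6980 3 0, .walk ⟨6980, 3, 0⟩ [.ext 0 48 [] []] [] (some (0, 0))),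
  (.pair 6 2857 3139, .walk ⟨7031, 3, 0⟩ [.ext 0 48 [] [30]] [.ext 0 48 [0, 0, 0, 2, 0] [28]] none),
  (.pair 6 3441 3464, .walk ⟨2841, 6, 5824⟩ [.ext 0 49 [0, 0, 1, 2] [], .code 1024, .ext 0 32 [2, 0, 1, 2] [], .code 1339, .ext 0 33 [1, 0, 0, 0, 1, 0, 1] [21, 24], .code 832, .ext 0 48 [] [28], .code 64] [] (some (3, 3))),
  (.edge 0 3185 4 6485 4 28, .walk ⟨6485, 4, 2459⟩ [.code 911, .ext 0 38 [0, 1, 0, 0, 0] [], .code 911, .ext 0 37 [0, 1, 0, 0, 0, 2, 0] [22], .code 911] [] (some (1, 2))),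
  (.edge 0 7650 4 3989 4 5617, .walk ⟨3989, 4, 2459⟩ [.code 1482, .ext 0 38 [0, 1, 0, 0, 0] [], .code 1482, .ext 0 37 [0, 1, 0, 2, 0, 1, 0] [20, 24, 23], .code 1482] [] (some (2, 2))),
  (.edge 0 5055 6 4546 4 2487, .walk ⟨4546, 4, 2459⟩ [.code 1024, .ext 0 38 [0, 1, 0, 0, 0] [], .code 1339, .ext 0 33 [0, 1, 0, 2, 0, 1] [20, 24], .code 832, .ext 0 48 [0, 0, 0, 0, 0, 1, 2, 0] [31, 29], .code 64] [] (some (3, 2))),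
  (.edge 0 4546 4 5055 6 4574, .walk ⟨5055, 6, 0⟩ [.ext 0 54 [] []] [] (some (0, 0))),
  (.edge 0 2580 5 4580 4 1024, .walk ⟨4580, 4, 2459⟩ [.code 1024, .ext 0 38 [0, 1, 2, 0, 2] [], .code 1339, .ext 0 33 [0, 1, 0, 0, 1] [21, 24], .code 832, .ext 0 44 [0, 2, 0] [29, 31], .code 64] [] (some (3, 2))),
  (.edge 0 4580 4 2580 5 5568, .walk ⟨2580, 5, 0⟩ [.ext 0 56 [] []] [] (some (0, 0))),
  (.edge 0 5033 4 570 4 3162, .walk ⟨570, 4, 3464⟩ [.code 1024, .ext 0 38 [0, 1, 0, 0, 0, 1, 0] [], .code 1339, .ext 0 25 [1, 2, 0, 2, 0, 1, 2, 0, 2] [24], .code 832, .ext 0 37 [0, 0, 0, 2, 0, 2] [20, 24], .code 64] [] (some (3, 2))),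
  (.pair 5 6352 2974, .walk ⟨40, 5, 282⟩ [.ext 0 45 [0, 0, 0, 0, 2] [], .code 1482, .ext 0 35 [0, 0, 0, 1, 2, 0, 2, 0, 1] [30, 31], .code 1482, .ext 0 44 [0, 0, 0, 0, 0, 1, 2, 0] [28], .code 1482] [] (some (2, 3))),
  (.edge 0 6500 5 5735 5 1, .walk ⟨5735, 5, 2829⟩ [.code 911, .ext 0 45 [0, 1, 2, 0, 1, 2, 0] [], .code 911, .ext 0 44 [0, 0, 0, 0, 0, 1, 0] [28], .code 911] [] (some (1, 2))),
  (.edge 0 2595 6 2009 5 29, .walk ⟨2009, 5, 2829⟩ [.code 1024, .ext 0 45 [1, 2, 0, 2, 0, 1, 2, 0, 2] [], .code 1339, .ext 0 36 [0, 0, 0, 2, 0, 1, 2] [29], .code 832, .ext 0 48 [0, 1, 0, 2, 0, 1, 0] [28, 29], .code 64] [] (some (3, 2))),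
  (.edge 0 2009 5 2595 6 29, .walk ⟨2595, 6, 0⟩ [.ext 0 61 [] []] [] (some (0, 0))),
  (.edge 0 6596 6 2850 6 1, .walk ⟨2850, 6, 2829⟩ [.code 911, .ext 0 49 [2, 0, 1, 2] [], .code 911, .ext 0 48 [0, 0, 0, 2, 0] [28], .code 911] [] (some (1, 2))),
  (.edge 0 5212 6 2185 6 2825, .walk ⟨2185, 6, 2829⟩ [.code 1482, .ext 0 49 [2, 0, 1, 2] [], .code 1482, .ext 0 48 [0, 0, 1, 0, 1, 0, 2, 0, 2] [31], .code 1482] [] (some (2, 2))),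
  (.edge 0 7068 6 4590 6 2887, .walk ⟨4590, 6, 4⟩ [.code 1024, .ext 0 49 [0, 1, 2, 0] [], .code 1339, .ext 0 35 [0, 0, 0, 0, 2, 0, 1, 2, 0] [30], .code 832, .ext 0 48 [1, 0, 0, 2, 0] [29, 31], .code 64] [] (some (3, 2))),
  (.edge 0 4590 6 7068 6 2883, .walk ⟨7068, 6, 0⟩ [.ext 0 65 [] []] [] (some (0, 0))),
  (.edge 0 3244 4 2219 6 917, .walk ⟨2219, 6, 2829⟩ [.code 1482, .ext 0 49 [0, 0, 2, 0, 1, 2, 0, 2, 0] [], .code 1482, .ext 0 43 [0, 1, 0, 1, 0, 2, 0, 2] [29], .code 1482] [] (some (2, 2))),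
  (.edge 0 2219 6 3244 4 912, .walk ⟨3244, 4, 0⟩ [.ext 0 67 [] []] [] (some (0, 0))),
  (.edge 0 1068 5 0 7 0, .def'),
  (.edge 0 0 7 1068 5 0, .walk ⟨1068, 5, 0⟩ [.ext 0 69 [] []] [] (some (0, 0))),
  (.edge 0 64 7 5653 4 6623, .walk ⟨5653, 4, 912⟩ [.code 1024, .ext 0 42 [0, 0, 1, 2] [], .code 1339, .ext 0 44 [0, 0, 1, 0, 1, 2] [31], .code 832, .ext 0 69 [] [], .code 64] [] (some (3, 2))),
  (.edge 0 5653 4 64 7 6466, .walk ⟨64, 7, 0⟩ [.ext 0 71 [] []] [] (some (0, 0))),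
  (.pair 7 1426 6116, .walk ⟨4333, 7, 3143⟩ [.ext 0 71 [1, 0, 1, 0, 2] [], .code 1024, .ext 0 42 [0, 0, 1, 0, 1, 0, 2] [], .code 1339, .ext 0 44 [1, 0, 1] [], .code 832, .ext 0 69 [0, 2, 0, 2, 0, 2] [47, 59, 46], .code 64] [] (some (3, 3))),
  (.edge 0 5909 7 2780 6 3709, .walk ⟨2780, 6, 6470⟩ [.code 1024, .ext 0 68 [0, 0, 0, 0, 1, 0] [], .code 1339, .ext 0 53 [1, 0, 1, 0, 2, 0, 1] [], .code 832, .ext 0 72 [0] [40, 41], .code 64] [] (some (3, 2))),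
  (.edge 0 2780 6 5909 7 3706, .walk ⟨5909, 7, 0⟩ [.ext 0 74 [] []] [] (some (0, 0))),
  (.edge 0 4330 7 5359 7 2824, .walk ⟨5359, 7, 3865⟩ [.code 911, .ext 0 71 [1, 0, 1, 0] [], .code 911, .ext 0 72 [0, 2, 0, 2, 0, 2] [39, 41], .code 911] [] (some (1, 2))),
  (.edge 0 1598 7 4283 7 5709, .walk ⟨4283, 7, 3865⟩ [.code 1482, .ext 0 71 [1, 0, 1, 0] [], .code 1482, .ext 0 72 [0, 0, 1, 2, 0, 1, 2, 0] [39, 40, 41], .code 1482] [] (some (2, 2))),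
  (.edge 0 7578 7 4222 7 3183, .walk ⟨4222, 7, 6615⟩ [.code 1482, .ext 0 71 [0, 2, 0, 1] [], .code 1482, .ext 0 72 [0, 0, 1, 2, 0, 1, 2, 0, 2] [40], .code 1482] [] (some (2, 2))),
  (.edge 0 4801 6 438 6 4041, .walk ⟨438, 6, 4547⟩ [.code 1024, .ext 0 54 [0, 0, 0, 1, 0, 1] [], .code 1339, .ext 0 67 [0, 0, 0, 1, 2] [], .code 832, .ext 0 64 [0, 0, 0, 0, 2, 0, 1, 2] [50, 51], .code 64] [] (some (3, 2))),
  (.edge 0 671 6 0 8 0, .def'),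
  (.edge 0 0 8 671 6 0, .walk ⟨671, 6, 0⟩ [.ext 0 80 [] []] [] (some (0, 0))),
  (.pair 8 5721 5868, .walk ⟨1609, 6, 0⟩ [.ext 0 80 [] [51]] [.ext 0 80 [0, 0, 1, 2] [50]] none),
  (.pair 8 7067 790, .walk ⟨6491, 8, 5568⟩ [.ext 0 81 [0, 0, 0, 2, 0, 1, 2, 0, 2] [], .code 1024, .ext 0 54 [2, 0, 1, 2, 0, 2] [], .code 1339, .ext 0 67 [0, 0, 0, 0, 0, 1, 2] [], .code 832, .ext 0 80 [] [], .code 64] [] (some (3, 3)))]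

/-- A remaining node. -/
def live0 : Live := ⟨1, 30, [
    (0,0,0), (32,0,9), (4,0,10), (3171,0,11), (5733,0,12), (41,0,13), (900,0,14), (36,32,10), (3139,32,11),
    (5701,32,12), (9,32,13), (932,32,14), (3175,4,11), (5729,4,12), (45,4,13), (896,4,14), (3174,3171,10),
    (2861,3171,12), (3179,3171,13), (6638,3171,14), (1,5733,12), (5741,5733,13), (3845,5733,14), (13,41,10),
    (3146,41,11), (5740,41,12), (909,41,14), (6518,900,11), (953,900,13), (37,900,14), (3143,36,11), (5697,36,12),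
    (928,36,14), (3142,3139,10), (2829,3139,12), (3147,3139,13), (6606,3139,14), (33,5701,12), (5709,5701,13),
    (3877,5701,14), (3178,9,11), (5708,9,12), (941,9,14), (6486,932,11), (921,932,13), (5,932,14), (3170,3175,10),
    (2857,3175,12), (3183,3175,13), (6634,3175,14), (5737,5729,13), (3841,5729,14), (3150,45,11), (5736,45,12),
    (905,45,14), (6514,896,11), (957,896,13), (2856,3174,12), (3182,3174,13), (6635,3174,14), (2820,2861,13),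
    (8,3179,11), (2821,3179,12), (6598,3179,14), (3840,6638,11), (6611,6638,13), (5732,1,12), (40,1,13), (901,1,14),
    (5705,5741,10), (2853,5741,11), (3853,5741,14), (3897,3845,13), (5696,3845,14), (5704,13,12), (937,13,14),
    (2852,3146,12), (3138,3146,13), (6631,3146,14), (3852,5740,14), (6527,909,11), (912,909,13), (44,909,14),
    (6515,6518,10), (6474,6518,13), (925,953,10), (6507,953,11), (3896,953,12), (24,953,14), (12,37,13), (929,37,14),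
    (2825,3143,12), (3151,3143,13), (6602,3143,14), (3873,5697,14), (6482,928,11), (2824,3142,12), (6603,3142,14),
    (6630,3147,14), (3872,6606,11), (6643,6606,13), (5700,33,12), (933,33,14), (3885,5709,14), (3865,3877,13),
    (5728,3877,14), (6599,3178,14), (3884,5708,14), (6495,941,11), (944,941,13), (6483,6486,10), (6506,6486,13),
    (6475,921,11), (3864,921,12), (56,921,14), (897,5,14), (2860,3170,12), (6639,3170,14), (2816,2857,13),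
    (2817,3183,12), (6594,3183,14), (3844,6634,11), (6615,6634,13), (2849,5737,11), (3849,5737,14), (3901,3841,13),
    (2848,3150,12), (6627,3150,14), (3848,5736,14), (6523,905,11), (916,905,13), (6519,6514,10), (6478,6514,13),
    (6511,957,11), (3900,957,12), (28,957,14), (6595,3182,14), (6614,6635,13), (940,8,14), (6522,2821,14),
    (6619,6598,13), (6646,6611,10), (3869,6611,11), (6479,6611,12), (3194,6611,14), (908,40,14), (952,901,13),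
    (3881,5705,14), (2828,2853,13), (6490,2853,14), (3857,3853,13), (6647,3897,11), (5724,3897,14), (3880,5704,14),
    (6491,937,11), (948,937,13), (6607,3138,14), (6650,6631,13), (3856,3852,13), (6499,6527,13), (6466,912,11),
    (49,912,14), (904,44,14), (920,6474,11), (2833,6474,14), (3868,925,12), (60,925,14), (6487,6507,13),
    (2864,6507,14), (5725,3896,14), (3195,24,11), (956,24,14), (936,12,14), (924,929,13), (6626,3151,14),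
    (3876,6602,11), (6510,6482,13), (6651,6630,13), (3162,6643,14), (3889,3885,13), (5756,3865,14), (6618,6599,13),
    (3888,3884,13), (6467,6495,13), (6498,944,11), (17,944,14), (2865,6506,14), (2832,6475,14), (5757,3864,14),
    (3163,56,11), (6610,6639,13), (6526,2817,14), (6623,6594,13), (6642,6615,10), (3198,6615,14), (6494,2849,14),
    (3861,3849,13), (5720,3901,14), (6654,6627,13), (3860,3848,13), (6503,6523,13), (6470,916,11), (53,916,14),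
    (2837,6478,14), (2868,6511,14), (5721,3900,14), (3199,28,11), (6622,6595,13), (945,940,13), (6502,6522,13),
    (3893,6619,11), (3186,6619,14), (3167,6646,14), (5752,3869,14), (2836,6479,14), (25,3194,11), (913,908,13),
    (6655,3857,11), (5716,3857,14), (3166,6647,14), (3892,3880,13), (6471,6491,13), (21,948,14), (3155,6650,14),
    (5717,3856,14), (2872,6499,14), (2841,6466,14), (3154,49,11), (949,49,14), (917,904,13), (57,920,14),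
    (5753,3868,14), (3187,3195,13), (29,956,14), (61,924,14), (2869,6510,14), (5748,3889,14), (5749,3888,14),
    (2840,6467,14), (2873,6498,14), (3190,6623,14), (5712,3861,14), (3159,6654,14), (5713,3860,14), (2876,6503,14),
    (2845,6470,14), (3158,53,11), (3191,3199,13), (16,945,14), (2877,6502,14), (5744,3893,14), (48,25,13),
    (2844,5716,11), (5745,3892,14), (20,949,14), (52,917,14)]⟩

/-- A remaining node. -/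
def live1 : Live := ⟨2, 80, [
    (0,0,0), (1,0,19), (2824,0,20), (2848,0,21), (9,0,22), (3142,0,23), (3441,0,24), (2825,1,20), (2849,1,21),
    (8,1,22), (3143,1,23), (3440,1,24), (40,2824,21), (2817,2824,22), (5732,2824,23), (113,2824,24), (2857,2848,22),
    (5740,2848,23), (89,2848,24), (3183,9,23), (3448,9,24), (5741,3142,21), (3182,3142,22), (4309,3142,24),
    (121,3441,20), (81,3441,21), (5006,3441,23), (41,2825,21), (2816,2825,22), (5733,2825,23), (112,2825,24),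
    (2856,2849,22), (88,2849,24), (3449,8,24), (4308,3143,24), (120,3440,20), (80,3440,21), (5007,3440,23), (33,40,22),
    (3150,40,23), (3417,40,24), (5709,2817,23), (3151,5732,21), (5708,5732,22), (3093,5732,24), (3409,113,21),
    (2604,113,23), (5701,2857,23), (5700,5740,22), (3101,5740,24), (2596,89,23), (4348,3183,24), (5031,3448,23),
    (3100,5741,24), (4349,3182,24), (3132,4309,20), (3125,4309,21), (3671,4309,23), (2564,121,23), (2572,81,23),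
    (2597,5006,21), (5030,5006,22), (2551,5006,24), (32,41,22), (3416,41,24), (3092,5733,24), (3408,112,21),
    (2605,112,23), (3133,4308,20), (3124,4308,21), (3670,4308,23), (2565,120,23), (2573,80,23), (2550,5007,24),
    (3175,33,23), (3174,3150,22), (4317,3150,24), (4998,3417,23), (4316,3151,24), (4341,3093,21), (2559,3093,23),
    (5038,3409,23), (4999,2604,21), (3679,2604,24), (4340,3101,20), (3710,4348,23), (2526,5031,24), (3711,4349,23),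
    (2518,3132,23), (2527,3125,23), (5039,2564,21), (3703,2564,24), (3702,2551,20), (2558,3092,23), (3678,2605,24),
    (2519,3133,23)]⟩

/-- A remaining node. -/
def live2 : Live := ⟨3, 480, [
    (0,0,0), (1,0,28), (2857,0,29), (5,0,30), (3171,0,31), (2856,1,29), (4,1,30), (3170,1,31), (2861,2857,30),
    (5729,2857,31), (2860,5,29), (3174,5,31), (5728,3171,29), (3175,3171,30), (5733,2861,31), (5732,5729,30)]⟩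

/-- A remaining node. -/
def live3 : Live := ⟨4, 960, [
    (0,0,0), (2857,0,39), (3183,0,40), (2856,0,41), (5740,2857,40), (1,2857,41), (5741,3183,41), (3182,5740,41)]⟩

/-- A remaining node. -/
def live4 : Live := ⟨5, 640, [
    (0,0,0), (2857,0,46), (80,0,47), (6352,0,59), (3441,2857,47), (3834,2857,59), (6912,80,59), (7644,6352,46),
    (4418,3441,59), (2724,3834,46), (7557,6912,46), (3271,4418,46)]⟩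

/-- A remaining node. -/
def live5 : Live := ⟨6, 1920, [
    (0,0,0), (2857,0,50), (3441,0,51), (80,2857,51)]⟩

/-- A remaining node. -/
def live6 : Live := ⟨7, 1536, [
    (0,0,0), (1426,0,73), (423,1426,73), (1588,423,73), (831,1588,73)]⟩

/-- A remaining node. -/
def live7 : Live := ⟨8, 128, [
    (0,0,0), (5721,0,82), (7067,0,83), (817,5721,83), (7125,7067,82), (1388,7067,83), (5550,817,82), (2794,817,83),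
    (4273,7125,83), (4138,1388,82), (5680,1388,83), (1548,5550,83), (6564,2794,82), (2317,2794,83), (4864,4273,82),
    (2180,4273,83), (3835,4138,83), (3550,5680,82), (5298,5680,83), (2653,1548,82), (3971,1548,83), (5096,6564,83),
    (6870,2317,82), (6400,2317,83), (4710,4864,83), (7672,2180,82), (6095,2180,83), (2302,3835,82), (1167,3550,83),
    (1421,5298,82), (426,2653,83), (5198,3971,82), (706,3971,83), (2099,5096,82), (7331,6870,83), (1301,6400,82),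
    (1770,4710,82), (3275,4710,83), (2393,7672,83), (6711,6095,82), (3711,6095,83), (7258,2302,83), (6971,1167,82),
    (5873,1421,83), (5400,426,83), (1637,706,82), (2617,706,83), (660,2099,83), (183,7331,82), (4559,1301,83),
    (7461,3275,82), (3087,3711,82), (342,7258,82), (2491,5873,82), (3730,5400,82), (3427,2617,82), (5965,660,82),
    (6817,4559,82), (3875,3087,83), (938,3427,83)]⟩

/-- Representatives of the cosets. -/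
def reps0 : List (ℕ × List (List ℕ × ℕ)) := [
  (0, [([0, 1, 0, 1, 0, 1, 0, 1], 0), ([], 1), ([1, 2, 0, 2, 0, 1], 0), ([2], 0), ([0, 0, 0, 1, 0, 1, 0, 1, 0, 1], 0), ([], 2), ([], 4)]),
  (2, [([0, 1, 2, 0, 2, 0, 1, 2, 0, 2], 1), ([], 0), ([1, 2, 0, 2, 0, 1], 1), ([2], 1), ([0, 0, 0, 1, 0, 1, 0, 1, 0, 1], 1), ([], 3), ([], 5)]),
  (64, [([0, 1, 0, 2, 0, 1, 0], 2), ([0, 0, 0, 0, 2], 3), ([0, 0, 1, 2, 0, 2, 0, 1], 3), ([2], 2), ([0, 1, 0, 0, 0, 1, 0, 1, 0, 1], 2), ([], 0), ([], 6)]),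
  (66, [([0, 1, 2, 0, 2, 0, 1, 2, 0], 3), ([0, 0, 0, 0, 2], 2), ([0, 0, 1, 0, 2, 0, 1, 2], 2), ([2], 3), ([0, 1, 0, 0, 0, 1, 0, 1, 0, 1], 3), ([], 1), ([], 7)]),
  (128, [([], 5), ([1, 0, 0, 1, 2], 5), ([2], 4), ([1, 0, 2, 0, 1, 2], 5), ([0, 0, 0, 1, 0, 1, 0, 1, 0, 1], 4), ([], 8), ([], 10)]),
  (130, [([], 4), ([0, 0, 2], 4), ([2], 5), ([1, 0, 2, 0, 1, 2], 4), ([0, 0, 0, 1, 0, 1, 0, 1, 0, 1], 5), ([], 9), ([], 11)]),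
  (192, [([0, 0, 0, 0, 2], 7), ([1, 0, 0, 1, 2], 7), ([2], 6), ([1, 0, 0, 0, 2, 0, 1], 6), ([0, 1, 0, 0, 0, 1, 0, 1, 0, 1], 6), ([0, 0, 2, 0, 1, 2, 0, 2], 6), ([], 12)]),
  (194, [([0, 0, 0, 0, 2], 6), ([0, 0, 2], 6), ([2], 7), ([0, 0, 1, 0, 2, 0, 1], 7), ([0, 1, 0, 0, 0, 1, 0, 1, 0, 1], 7), ([0, 0, 1, 0, 1, 0, 1], 7), ([], 13)]),
  (256, [([1, 0, 2, 0, 1, 2], 8), ([1, 0, 0, 0, 2, 0, 1], 8), ([0, 1, 2, 0, 2, 0, 1, 2, 0, 2], 8), ([1, 0, 2, 0, 1, 2], 9), ([0, 1, 0, 0, 0, 1, 0, 1, 0, 1], 8), ([], 4), ([2, 0], 2)]),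
  (258, [([1, 0, 2, 0, 1, 2], 9), ([0, 0, 1, 0, 2, 0, 1], 9), ([0, 1, 0, 1, 0, 1, 0, 1], 9), ([1, 0, 2, 0, 1, 2], 8), ([0, 1, 0, 0, 0, 1, 0, 1, 0, 1], 9), ([], 5), ([0, 2, 0, 2, 0, 2], 3)]),
  (320, [([1, 0, 0, 1, 2], 11), ([0, 2, 0], 11), ([1, 0, 2, 0, 1, 2], 11), ([0, 0], 11), ([0, 0, 0, 1, 0, 1, 0, 1, 0, 1], 10), ([], 14), ([], 16)]),
  (322, [([0, 0, 2], 10), ([2, 0, 2, 0, 2], 10), ([1, 0, 2, 0, 1, 2], 10), ([1, 0, 0, 1], 10), ([0, 0, 0, 1, 0, 1, 0, 1, 0, 1], 11), ([], 15), ([], 17)]),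
  (448, [([1, 0, 0, 1, 2], 13), ([0, 0, 0, 2, 0], 12), ([1, 0, 0, 0, 2, 0, 1], 12), ([0, 0], 13), ([0, 1, 0, 0, 0, 1, 0, 1, 0, 1], 12), ([], 18), ([], 20)]),
  (450, [([0, 0, 2], 12), ([0, 0, 0, 2, 0], 13), ([0, 0, 1, 0, 2, 0, 1], 13), ([1, 0, 0, 1], 12), ([0, 1, 0, 0, 0, 1, 0, 1, 0, 1], 13), ([], 19), ([], 21)]),
  (576, [([0, 0, 0, 0, 2], 14), ([0, 0, 0, 2, 0], 14), ([0, 0, 0, 0], 15), ([0, 0], 15), ([0, 1, 0, 0, 0, 1, 0, 1, 0, 1], 14), ([], 10), ([0, 0, 0, 1], 19)]),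
  (578, [([0, 0, 0, 0, 2], 15), ([0, 0, 0, 2, 0], 15), ([0, 0, 0, 0], 14), ([1, 0, 0, 1], 14), ([0, 1, 0, 0, 0, 1, 0, 1, 0, 1], 15), ([], 11), ([0, 1, 2], 18)]),
  (640, [([0, 2, 0], 17), ([0, 0, 1, 0, 2, 0, 1, 2], 17), ([0, 0], 17), ([0, 1, 2, 0, 2, 0, 1, 2, 0], 16), ([0, 0, 0, 1, 0, 1, 0, 1, 0, 1], 16), ([1], 16), ([], 22)]),
  (642, [([2, 0, 2, 0, 2], 16), ([0, 0, 1, 2, 0, 2, 0, 1], 16), ([1, 0, 0, 1], 16), ([0, 1, 0, 2, 0, 1, 0], 17), ([0, 0, 0, 1, 0, 1, 0, 1, 0, 1], 17), ([0, 0, 0, 0, 1, 2], 17), ([], 23)]),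
  (768, [([0, 0, 0, 0, 2], 18), ([0, 2, 0], 19), ([2], 19), ([0, 0], 19), ([0, 0, 0, 1, 0, 1, 0, 1, 0, 1], 18), ([], 12), ([], 24)]),
  (770, [([0, 0, 0, 0, 2], 19), ([2, 0, 2, 0, 2], 18), ([2], 18), ([1, 0, 0, 1], 18), ([0, 0, 0, 1, 0, 1, 0, 1, 0, 1], 19), ([], 13), ([], 25)]),
  (832, [([0, 0, 0, 2, 0], 20), ([1, 0, 2, 0, 1, 2], 20), ([0, 0], 21), ([0, 1, 2, 0, 2, 0, 1, 2, 0, 2], 20), ([0, 1, 0, 0, 0, 1, 0, 1, 0, 1], 20), ([0, 0, 0, 0, 1, 2], 20), ([0, 1, 0, 0, 1, 2], 8)]),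
  (834, [([0, 0, 0, 2, 0], 21), ([1, 0, 2, 0, 1, 2], 21), ([1, 0, 0, 1], 20), ([0, 1, 0, 1, 0, 1, 0, 1], 21), ([0, 1, 0, 0, 0, 1, 0, 1, 0, 1], 21), ([1], 21), ([0, 2], 9)]),
  (1152, [([0, 0, 1, 0, 2, 0, 1, 2], 23), ([0, 1, 0, 1, 0, 1, 0, 1], 22), ([0, 1, 2, 0, 2, 0, 1, 2, 0], 22), ([1, 2, 0, 2, 0, 1], 22), ([0, 0, 0, 1, 0, 1, 0, 1, 0, 1], 22), ([0, 0, 2, 0, 1, 2, 0, 2], 25), ([], 0)]),
  (1154, [([0, 0, 1, 2, 0, 2, 0, 1], 22), ([0, 1, 2, 0, 2, 0, 1, 2, 0, 2], 23), ([0, 1, 0, 2, 0, 1, 0], 23), ([1, 2, 0, 2, 0, 1], 23), ([0, 0, 0, 1, 0, 1, 0, 1, 0, 1], 23), ([0, 0, 1, 0, 1, 0, 1], 24), ([], 1)]),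
  (1344, [([0, 2, 0], 25), ([1, 0, 2, 0, 1, 2], 24), ([0, 0], 25), ([2, 0, 2, 0], 24), ([0, 0, 0, 1, 0, 1, 0, 1, 0, 1], 24), ([0, 0, 1, 0, 1, 0, 1], 23), ([], 26)]),
  (1346, [([2, 0, 2, 0, 2], 24), ([1, 0, 2, 0, 1, 2], 25), ([1, 0, 0, 1], 24), ([0, 2, 0, 2], 25), ([0, 0, 0, 1, 0, 1, 0, 1, 0, 1], 25), ([0, 0, 2, 0, 1, 2, 0, 2], 22), ([], 27)]),
  (2176, [([1, 0, 2, 0, 1, 2], 26), ([0, 0, 0, 2, 0], 27), ([2, 0, 2, 0], 26), ([0, 0, 1, 2, 0, 2, 0, 1], 27), ([0, 0, 0, 1, 0, 1, 0, 1, 0, 1], 26), ([], 28), ([0, 1, 0, 0, 2], 28)]),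
  (2178, [([1, 0, 2, 0, 1, 2], 27), ([0, 0, 0, 2, 0], 26), ([0, 2, 0, 2], 27), ([0, 0, 1, 0, 2, 0, 1, 2], 26), ([0, 0, 0, 1, 0, 1, 0, 1, 0, 1], 27), ([], 29), ([0, 0, 0, 0, 0, 1], 29)]),
  (3200, [([1, 0, 0, 1], 29), ([0, 1, 0, 2, 0, 1, 0], 28), ([2, 0, 2, 0, 2], 29), ([0, 0, 1, 2, 0, 2, 0, 1], 29), ([0, 1, 0, 0, 0, 1, 0, 1, 0, 1], 28), ([], 26), ([0, 1, 0, 1, 0, 2, 0, 2], 15)]),
  (3202, [([0, 0], 28), ([0, 1, 2, 0, 2, 0, 1, 2, 0], 29), ([0, 2, 0], 28), ([0, 0, 1, 0, 2, 0, 1, 2], 28), ([0, 1, 0, 0, 0, 1, 0, 1, 0, 1], 29), ([], 27), ([0, 0, 1, 0, 1, 0], 14)])]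

/-- Steps from node 0. -/
def close0 : List (List Op) := [
  [.ext 0 7 [] []], [.ext 0 7 [] [1]], [.ext 0 7 [] [5]], [.ext 0 7 [] [1, 5]], [.ext 0 7 [] [6]],
  [.ext 0 7 [] [1, 6]], [.ext 0 7 [] [5, 6]], [.ext 0 7 [] [1, 5, 6]], [.ext 0 7 [] [6, 5]], [.ext 0 7 [] [1, 6, 5]],
  [.ext 0 7 [] [6, 6]], [.ext 0 7 [] [1, 6, 6]], [.ext 0 7 [] [5, 6, 6]], [.ext 0 7 [] [1, 5, 6, 6]],
  [.ext 0 7 [] [6, 6, 5]], [.ext 0 7 [] [1, 6, 6, 5]], [.ext 0 7 [] [6, 6, 6]], [.ext 0 7 [] [1, 6, 6, 6]],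
  [.ext 0 7 [] [5, 6, 6, 5]], [.ext 0 7 [0, 0, 0, 0, 1, 0] [6, 6, 5, 6]], [.ext 0 7 [] [5, 6, 6, 6]],
  [.ext 0 7 [] [1, 5, 6, 6, 6]], [.ext 0 7 [] [6, 6, 6, 6]], [.ext 0 7 [] [1, 6, 6, 6, 6]],
  [.ext 0 7 [] [5, 6, 6, 5, 6]], [.ext 0 7 [0, 0, 0, 0, 1, 0] [6, 6, 5, 6, 6]], [.ext 0 7 [] [5, 6, 6, 5, 6, 6]],
  [.ext 0 7 [0, 0, 0, 0, 1, 0] [6, 6, 5, 6, 6, 6]], [.ext 0 7 [] [5, 6, 6, 5, 6, 6, 5]],
  [.ext 0 7 [0, 0, 0, 0, 1, 0] [6, 6, 5, 6, 6, 6, 5]]]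

/-- Steps from node 1. -/
def close1 : List (List Op) := [
  [.ext 0 8 [] []], [.ext 0 15 [0, 1, 2, 0] []], [.ext 0 17 [1, 0, 1, 2] [12]], [.ext 0 17 [0, 1] [11]],
  [.ext 0 26 [0, 2, 0, 2, 0] [12, 12]], [.ext 0 26 [0, 2, 0, 2, 0] []], [.ext 0 26 [0, 0, 1, 0, 2] [12, 14]],
  [.ext 0 26 [1, 0, 0, 0, 2] [11, 14, 11]], [.ext 0 16 [0, 1, 2, 0, 2, 0, 1, 2, 0] [11, 13]],
  [.ext 0 16 [0, 1, 0, 2, 0, 1, 0] [11]], [.ext 0 26 [1, 2, 0, 2, 0] [11, 10, 14]],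
  [.ext 0 26 [0, 0, 0, 0, 1] [11, 14]], [.ext 0 26 [0, 0, 1] [14]], [.ext 0 26 [0, 0, 0, 0, 1, 2] [12, 12, 14]],
  [.ext 0 17 [0, 0, 0, 1, 0, 2, 0, 1] [14]], [.ext 0 17 [0, 1, 0, 0, 0, 2, 0, 1] [10, 14]],
  [.ext 0 26 [0, 2, 0, 2, 0, 1, 0] [14, 11]], [.ext 0 26 [0, 0, 0, 0, 2, 0, 1, 2, 0] [14, 11, 10]],
  [.ext 0 17 [0, 0, 0, 1, 0, 2, 0, 1] [11, 14]], [.ext 0 17 [0, 0, 0, 2, 0, 1, 2, 0, 2] [12, 14]],
  [.ext 0 17 [0, 1, 0, 1, 0, 1, 0, 1] [10]], [.ext 0 17 [0, 1, 0, 0, 0, 1, 0, 1, 0, 1] []],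
  [.ext 0 26 [0, 0, 1, 2, 0, 1] [12]], [.ext 0 26 [1, 2, 0, 1] [12, 13]], [.ext 0 26 [0, 0, 2, 0, 1, 2, 0] [11, 10]],
  [.ext 0 26 [2, 0, 1, 2, 0] [11]], [.ext 0 16 [0, 1, 0, 1, 2] []], [.ext 0 16 [0, 1, 0, 0, 0, 1, 2] [13]],
  [.ext 0 26 [2, 0, 2, 0] [11, 12]], [.ext 0 26 [2] [11, 10, 12]]]

/-- Steps from node 2. -/
def close2 : List (List Op) := [
  [.ext 0 18 [] []], [.ext 0 25 [0, 1, 2, 0, 1, 2, 0, 2] [24]], [.ext 0 18 [0, 0, 1, 2] [24]],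
  [.ext 0 25 [0, 1, 0, 0, 0, 2, 0] []], [.ext 0 33 [0, 0, 0] [21, 24]],
  [.ext 0 33 [0, 0, 0, 1, 0, 2, 0, 1, 2] [20, 24]], [.ext 0 37 [0, 2, 0, 1, 2, 0, 2, 0, 2] [24, 23]],
  [.ext 0 37 [0, 1, 0, 1, 0, 1, 0, 2] [22, 24, 23]], [.ext 0 33 [0, 0, 1, 0, 1, 0, 1, 0, 1] [22]],
  [.ext 0 33 [0, 0, 1, 0, 1, 0, 1, 0, 1] []], [.ext 0 37 [0, 1, 0, 1, 0, 1] [24]],
  [.ext 0 37 [0, 0, 1, 0, 1, 0, 2, 0, 1] [22, 24]], [.ext 0 37 [0, 1, 0, 1, 0, 1] [20, 24]],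
  [.ext 0 37 [0, 0, 0, 1, 0, 1, 0, 1] [21, 24]], [.ext 0 37 [1, 2, 0] [20]], [.ext 0 37 [0, 0, 1, 2, 0] [21]],
  [.ext 0 37 [0, 0, 0, 0, 0, 1] [21, 24, 23]], [.ext 0 37 [0, 1, 0, 2, 0, 2] [20, 24, 23]],
  [.ext 0 37 [0, 0, 0, 0, 1, 2, 0] []], [.ext 0 37 [1, 0, 0, 0] [22]], [.ext 0 25 [0, 0, 1, 0, 2, 0, 1] [23]],
  [.ext 0 18 [1, 0, 1, 0, 2, 0, 2] [24, 23]], [.ext 0 33 [1, 2, 0, 1, 2, 0, 2, 0] [24, 23]],
  [.ext 0 33 [0, 1, 2, 0, 1, 2, 0, 2] [22, 24, 23]], [.ext 0 33 [0, 1, 2, 0, 2] [20, 24, 23]],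
  [.ext 0 33 [2, 0, 1, 2, 0, 2] [21, 24, 23]], [.ext 0 33 [0, 0, 2] [20]], [.ext 0 33 [1, 0, 2, 0, 1] [21]],
  [.ext 0 33 [0, 2, 0] [24]], [.ext 0 33 [0, 0, 0, 2, 0] [22, 24]]]

/-- Steps from node 3. -/
def close3 : List (List Op) := [
  [.ext 0 27 [] []], [.ext 0 34 [0, 1, 0, 2, 0, 1, 2] []], [.ext 0 35 [0, 2, 0, 1, 2, 0, 2, 0, 2] []],
  [.ext 0 35 [1, 0, 0, 0, 2, 0] [30]], [.ext 0 44 [0, 0, 0, 2, 0, 1, 2, 0] [29, 31]],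
  [.ext 0 44 [0, 0, 0, 2, 0, 1, 2, 0] [31, 29]], [.ext 0 48 [0, 2, 0, 2, 0] [29, 31]],
  [.ext 0 48 [0, 0, 0, 2] [31, 29]], [.ext 0 36 [0, 0, 0, 2, 0] [29]], [.ext 0 32 [0, 0, 0, 0, 0] []],
  [.ext 0 48 [1, 0, 1, 0, 2] [29]], [.ext 0 48 [0, 0, 0, 1, 0, 1] [28, 29]], [.ext 0 48 [0, 1, 0, 1] []],
  [.ext 0 48 [0, 0, 1, 0, 1, 0, 2] [28]], [.ext 0 43 [2, 0, 1, 0, 0] [30]], [.ext 0 43 [0, 1, 0, 0] []],
  [.ext 0 48 [0, 0, 1, 0, 2, 0, 1, 2] [31]], [.ext 0 48 [0, 1, 0, 0, 0, 2, 0, 1, 0] [28, 31]],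
  [.ext 0 43 [2, 0, 1, 0, 0] [29, 30]], [.ext 0 43 [0, 0, 2, 0, 1] [29]], [.ext 0 35 [1, 0, 0, 2, 0, 1] [31]],
  [.ext 0 35 [0, 0, 0, 0, 1, 2, 0, 1] [30, 31]], [.ext 0 44 [0, 0, 0, 0, 0, 1] []],
  [.ext 0 44 [0, 0, 0, 1, 2, 0, 2, 0] [28]], [.ext 0 44 [1, 0, 0, 1, 2] [29]],
  [.ext 0 44 [0, 0, 0, 2, 0, 2] [28, 29]], [.ext 0 32 [0, 0, 2, 0, 2, 0, 2] [29]],
  [.ext 0 36 [0, 0, 0, 0, 2, 0, 2] []], [.ext 0 44 [2, 0, 1, 0, 0, 0] [31]], [.ext 0 44 [2, 0, 1, 0] [28, 31]]]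

/-- Steps from node 4. -/
def close4 : List (List Op) := [
  [.ext 0 38 [] []], [.ext 0 52 [1, 0, 1, 0, 1] []], [.ext 0 42 [0, 1, 0, 1, 0, 1, 0, 2] []],
  [.ext 0 58 [0, 0, 2, 0, 2, 0, 1] [40]], [.ext 0 67 [1, 2, 0, 2, 0, 1, 2, 0, 2] [41]],
  [.ext 0 67 [1, 2, 0, 2, 0, 1, 2, 0, 2] [39]], [.ext 0 72 [1, 0, 0, 1] [40]], [.ext 0 72 [0, 0, 2] [39, 40, 41]],
  [.ext 0 53 [0, 0, 0, 0, 0] [40]], [.ext 0 53 [0, 0, 0, 0, 0, 1, 2, 0, 1] [39]], [.ext 0 72 [1, 2, 0, 1] []],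
  [.ext 0 72 [0, 0, 1, 0, 1] [39, 41]], [.ext 0 72 [1, 0, 1] [39]], [.ext 0 72 [0, 0, 1, 2, 0, 1] [41]],
  [.ext 0 55 [0, 0, 0, 1] []], [.ext 0 57 [2, 0, 1, 0, 0] []], [.ext 0 72 [1, 0, 1, 0, 1, 0, 1] [40, 41]],
  [.ext 0 72 [1, 0, 0, 0, 2, 0, 1, 0] [39, 40]], [.ext 0 55 [2, 0, 1, 0, 0] [39]], [.ext 0 57 [0, 0, 0, 1] [39]],
  [.ext 0 58 [0, 0, 1, 2, 0, 1, 2] []], [.ext 0 42 [0, 0, 1, 0, 1, 0, 2, 0, 2] [40]],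
  [.ext 0 67 [0, 0, 0, 0, 1, 2, 0, 1] [40]], [.ext 0 67 [1, 0, 1, 2] [39, 40, 41]],
  [.ext 0 67 [2, 0, 1, 2, 0] [39, 40]], [.ext 0 67 [0, 0, 2, 0, 1, 0] [40, 41]],
  [.ext 0 53 [0, 0, 1, 0, 1, 0, 2, 0, 2] []], [.ext 0 53 [0, 2, 0] [39, 40]], [.ext 0 67 [1, 2, 0, 2, 0, 1, 2] []],
  [.ext 0 67 [1, 0, 0, 0, 2, 0, 1] [39, 41]]]

/-- Steps from node 5. -/
def close5 : List (List Op) := [
  [.ext 0 45 [] []], [.ext 0 60 [0, 0, 0, 1, 0, 2, 0] []], [.ext 0 45 [0, 1, 0, 0, 0, 1, 0, 1, 0, 1] [47]],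
  [.ext 0 60 [2, 0, 1, 0, 0] [47]], [.ext 0 45 [0, 0, 0, 1, 2, 0, 1, 2] [47, 59]],
  [.ext 0 60 [0, 0, 0, 2, 0, 1, 2, 0, 2] [47, 59]], [.ext 0 62 [1, 0, 0, 0, 1, 0, 1, 0] [59]],
  [.ext 0 56 [0, 0, 0, 0, 1, 2, 0, 1, 2, 0] [59]], [.ext 0 45 [0, 0, 0, 0, 1, 2, 0, 1, 2, 0] [59]],
  [.ext 0 60 [1, 0, 0, 2, 0] [59]], [.ext 0 69 [0, 0, 1, 0, 2, 0] [59, 46]], [.ext 0 69 [1, 0] [46, 47]],
  [.ext 0 69 [0, 0, 1, 2, 0, 2, 0] [59]], [.ext 0 69 [1, 2, 0] [47]], [.ext 0 69 [2, 0, 2, 0, 1, 2] [47, 59, 46]],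
  [.ext 0 69 [2, 0, 2, 0, 1, 2, 0, 2] [46]], [.ext 0 56 [1, 0, 1, 0, 2, 0] [59, 46]],
  [.ext 0 62 [0, 0, 0, 2, 0, 1] [59, 46]], [.ext 0 69 [2, 0, 2, 0, 1] [47, 59]],
  [.ext 0 69 [1, 0, 1, 0, 2, 0, 1] []], [.ext 0 62 [0, 1, 2, 0, 1] []], [.ext 0 56 [0, 0, 0, 0, 1, 2, 0, 2] []],
  [.ext 0 69 [0, 0, 0, 0, 2, 0, 1, 2] [46, 59]], [.ext 0 69 [0, 1, 0, 1, 0, 2, 0, 1] [46, 47, 59, 46]],
  [.ext 0 69 [1, 2, 0, 2, 0, 1, 2] [46, 59, 46]], [.ext 0 69 [0, 1, 0, 2, 0, 1] [46, 47, 59]],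
  [.ext 0 60 [0, 1, 0] [59, 46]], [.ext 0 45 [0, 0, 1, 2, 0, 1] [59, 46]],
  [.ext 0 60 [1, 0, 0, 0, 1, 0, 1] [47, 59, 46]], [.ext 0 45 [1, 0, 0, 0, 1, 0, 2, 0] [47, 59, 46]]]

/-- Steps from node 6. -/
def close6 : List (List Op) := [
  [.ext 0 49 [] []], [.ext 0 63 [2, 0, 2, 0, 1, 0] []], [.ext 0 49 [0, 0, 1, 2] [51]],
  [.ext 0 63 [0, 0, 0, 1, 0, 2, 0, 1, 2] [51]], [.ext 0 68 [2, 0, 2] [51]], [.ext 0 64 [1, 2, 0, 2, 0, 1, 2] [51]],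
  [.ext 0 80 [0, 0, 0, 0, 0] [50]], [.ext 0 79 [0, 0, 0, 0, 1, 0, 1, 0, 1] [50]],
  [.ext 0 68 [0, 1, 0, 2, 0, 1, 2] [50]], [.ext 0 64 [0, 0, 2, 0, 2, 0, 2] [50]],
  [.ext 0 66 [0, 1, 2, 0, 2, 0, 2] [50, 51]], [.ext 0 65 [0, 1, 0, 1, 0, 2, 0, 2] [51]],
  [.ext 0 66 [2, 0, 1, 2, 0, 2, 0, 2] [51]], [.ext 0 65 [0, 1, 0, 0, 2, 0, 1] [50, 51]], [.ext 0 66 [2, 0, 1] []],
  [.ext 0 65 [0, 1, 2, 0, 1, 2] [50]], [.ext 0 79 [0, 2, 0, 1, 0] []], [.ext 0 80 [1, 0, 0, 0, 2, 0, 1] []],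
  [.ext 0 66 [0, 0, 0, 0, 0, 1] [50]], [.ext 0 65 [0, 1, 0, 0, 0, 1, 0, 2, 0] []],
  [.ext 0 61 [0, 2, 0, 1, 2, 0, 2] []], [.ext 0 54 [0, 0, 1, 0, 1, 0, 2, 0, 2] []],
  [.ext 0 75 [2, 0, 2, 0, 1, 2] [50, 51]], [.ext 0 75 [0, 1, 0, 0, 0, 1, 0, 1] [50]],
  [.ext 0 75 [1, 0, 0, 0, 1] [51]], [.ext 0 75 [0, 0, 0, 1, 0, 1] []], [.ext 0 64 [0, 2, 0, 2, 0] []],
  [.ext 0 68 [0, 1, 2, 0, 2, 0, 1, 2, 0] []], [.ext 0 64 [0, 0, 0, 1, 2, 0, 2, 0, 1] [50, 51]],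
  [.ext 0 68 [0, 0, 2] [50, 51]]]

/-- Steps from node 7. -/
def close7 : List (List Op) := [
  [.ext 0 70 [] []], [.ext 0 77 [0, 0, 0, 0, 2] [73, 73]], [.ext 0 71 [] []], [.ext 0 76 [0, 0, 0, 1, 0, 1, 2] []],
  [.ext 0 70 [0, 2, 0, 2, 0, 2] [73, 73, 73]], [.ext 0 77 [0, 0, 0, 0, 2, 0, 2] []],
  [.ext 0 77 [1, 0, 1, 0, 1] [73, 73, 73, 73]], [.ext 0 70 [2, 0, 1, 2, 0] [73, 73]],
  [.ext 0 71 [0, 0, 0, 2, 0, 2] [73, 73]], [.ext 0 76 [0, 0, 1, 2, 0, 1, 2, 0, 2] [73, 73]],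
  [.ext 0 78 [0, 0, 2, 0, 2, 0, 1] [73, 73, 73, 73]], [.ext 0 74 [0, 0, 0, 1, 2, 0, 2] []],
  [.ext 0 78 [0, 1, 0, 0, 0, 1, 0, 2] [73]], [.ext 0 74 [0, 1, 0, 2, 0, 1, 2] [73, 73]],
  [.ext 0 71 [1, 2, 0, 2, 0, 1, 2] [73, 73, 73, 73]], [.ext 0 76 [1, 2, 0, 1, 2, 0] [73, 73, 73, 73]],
  [.ext 0 76 [1, 0, 1, 0, 1] [73]], [.ext 0 71 [0, 1, 0, 0, 0, 1, 0, 1, 0] [73]],
  [.ext 0 77 [0, 0, 1, 0, 2, 0, 1, 2] [73]], [.ext 0 70 [0, 0, 1, 0, 2, 0, 1] [73, 73, 73, 73]],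
  [.ext 0 77 [0, 0, 0, 1, 0, 1, 0, 1, 0] [73, 73, 73]], [.ext 0 70 [0, 0, 0, 1, 0, 1, 0, 1, 0] [73]],
  [.ext 0 78 [0, 0, 1, 2, 0] [73, 73, 73]], [.ext 0 74 [0, 0, 1, 0, 1, 0, 1, 0, 2] [73, 73, 73, 73]],
  [.ext 0 76 [0, 0, 1] [73, 73, 73]], [.ext 0 71 [2, 0, 1, 2, 0] [73, 73, 73]],
  [.ext 0 78 [0, 0, 2, 0, 1, 0] [73, 73]], [.ext 0 74 [1, 0, 0, 0, 2, 0] [73, 73, 73]],
  [.ext 0 78 [0, 1, 2, 0, 1, 2, 0] []], [.ext 0 74 [0, 0, 1, 0, 2, 0, 1, 0] [73]]]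

/-- Steps from node 8. -/
def close8 : List (List Op) := [
  [.ext 0 81 [] []], [.ext 0 81 [1, 0, 0, 2, 0, 1] [83, 82, 83, 83, 83, 83, 82, 83]],
  [.ext 0 81 [0, 0, 0, 2, 0, 1, 2, 0, 2] [83, 83, 83, 83]],
  [.ext 0 81 [2, 0, 1, 2, 0, 2] [83, 82, 83, 83, 83, 83, 82]], [.ext 0 81 [1, 0, 0, 0, 1, 2] [83, 82, 83]],
  [.ext 0 81 [0, 1, 0, 1, 2] [83, 83, 83, 82, 83, 82]], [.ext 0 81 [2, 0, 2, 0, 1, 2, 0] [83, 82, 83, 83, 83, 82]],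
  [.ext 0 81 [0, 2, 0, 1, 2] [83, 82, 83, 82, 83]], [.ext 0 81 [2, 0, 1, 2, 0, 2] [83, 83, 82, 83]],
  [.ext 0 81 [1, 0, 1, 0, 1, 0] [83, 83, 82, 83, 82]], [.ext 0 81 [1, 2, 0, 1, 2, 0, 2, 0] [83, 83, 83]],
  [.ext 0 81 [0, 0, 2, 0, 2, 0] [83, 83, 82, 83, 82, 83, 82]],
  [.ext 0 81 [1, 0, 0, 2, 0, 2] [83, 82, 83, 82, 83, 82]], [.ext 0 81 [1, 2, 0, 2, 0, 2] [83, 82, 83, 83, 83]],
  [.ext 0 81 [2, 0, 2, 0, 1, 2, 0, 2] [83, 83, 83, 83, 82, 83]], [.ext 0 81 [0, 0, 0, 1, 2, 0, 2] [83, 82]],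
  [.ext 0 81 [0, 0, 0, 0, 1, 0, 1, 0, 2] [83, 83, 82, 83, 82, 83]], [.ext 0 81 [2, 0, 2] [83, 83, 83, 82]],
  [.ext 0 81 [0, 0, 0, 1, 2, 0, 1] [83]], [.ext 0 81 [0, 0, 0] [83, 83, 83, 83, 82, 83, 82]],
  [.ext 0 81 [1, 2, 0, 2, 0] [83, 83, 83, 83, 82]], [.ext 0 81 [0, 0, 0, 1, 2, 0, 2, 0] [83, 82, 83, 83, 83, 83]],
  [.ext 0 81 [0, 1, 0, 0, 1, 2] [83, 82, 83, 82]], [.ext 0 81 [2, 0, 2, 0, 2] [83, 83, 83, 82, 83]],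
  [.ext 0 81 [1, 2, 0, 2, 0, 1, 2] [83, 83]], [.ext 0 81 [0, 0, 0, 0, 1, 2, 0, 1, 2] [83, 82, 83, 82, 83, 83, 82]],
  [.ext 0 81 [1, 2, 0, 2, 0, 1] [83, 82, 83, 83]], [.ext 0 81 [1, 0, 1, 2] [83, 82, 83, 83, 82]],
  [.ext 0 81 [2, 0, 1, 0, 0, 0] [83, 83, 82]], [.ext 0 81 [2, 0, 2, 0, 1, 2, 0] [83, 82, 83, 82, 83, 83]]]

/-- The certificate, apart from the group of codes. -/
def data (N : ℕ) (mul : ℕ → ℕ → ℕ) (word : ℕ → List ℕ) : Data where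
  N := N
  mul := mul
  gens := gens
  word := word
  K := 1
  dgens := dgens
  rels := rels
  defs := defs
  facts := facts0
  live := [live0, live1, live2, live3, live4, live5, live6, live7]
  reps := [reps0]
  close := [[close0, close1, close2, close3, close4, close5, close6, close7, close8]]
  n := 5775

end CfsgLib.HSRec.Cert.Full
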