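import Cfsg.Agent.Lib.CodeCert.Check

/-!
Generated data of a certificate.
-/

set_option autoImplicit false
set_option maxRecDepth 100000

namespace CfsgLib.HSRec.Cert.LoopBad

open CfsgLib.CodeCert

/-- Generating codes. -/
def gens : List ℕ := [1, 2, 4, 8, 16, 64, 128]

/-- The generators of the normalised subgroup with their images. -/
def dgens : List (List (ℕ × ℕ)) := [[(904, 6638), (2816, 3166), (8, 3171)]]

/-- The relations. -/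
def rels : List (List Tok) := [
  [.s 0, .s 0],
  [.s 0, .c 911, .s 0, .c 911, .s 0, .c 911],
  [.s 0, .c 1482, .s 0, .c 1482, .s 0, .c 1482],
  [.s 0, .c 1024, .s 0, .c 64, .s 0, .c 832, .s 0, .c 1318]]

/-- The words of the nodes. -/
def defs : List (ℕ × ℕ × ℕ) := [
  (0, 0, 0), (0, 1327, 1)]

/-- Part 0 of the identities. -/
def facts0 : List (Concl × Why) := [
  (.pair 0 1 1, .def'),
  (.pair 0 8 8, .def'),
  (.pair 0 16 16, .def'),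
  (.pair 0 64 64, .def'),
  (.pair 0 128 128, .def'),
  (.edge 0 0 0 0 1 0, .def'),
  (.edge 0 0 1 0 0 0, .walk ⟨0, 0, 0⟩ [.ext 0 5 [] []] [] (some (0, 0))),
  (.pair 1 32 1, .walk ⟨1, 0, 0⟩ [.ext 0 5 [] [0]] [.ext 0 5 [0, 1, 0, 1, 0, 1, 0, 1] []] none),
  (.pair 1 3171 8, .walk ⟨8, 0, 0⟩ [.ext 0 5 [] [1]] [.ext 0 5 [2] []] none),
  (.pair 1 5733 16, .walk ⟨16, 0, 0⟩ [.ext 0 5 [] [2]] [.ext 0 5 [0, 0, 0, 1, 0, 1, 0, 1, 0, 1] []] none),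
  (.pair 1 41 3138, .walk ⟨384, 0, 0⟩ [.ext 0 5 [] [3, 4, 3]] [.ext 0 5 [0, 0, 2, 0, 1, 2, 0, 2] [3, 4]] none),
  (.pair 1 900 896, .walk ⟨512, 0, 0⟩ [.ext 0 5 [] [4, 3, 4]] [.ext 0 5 [2, 0] [3]] none),
  (.edge 0 1327 1 0 2 0, .def'),
  (.edge 0 0 2 1327 1 0, .walk ⟨1327, 1, 0⟩ [.ext 0 12 [] []] [] (some (0, 0))),
  (.pair 2 3449 3464, .walk ⟨56, 2, 896⟩ [.ext 0 13 [0, 1, 0, 0, 0, 2, 0, 1, 0] [], .code 1024, .ext 0 6 [0, 1, 0, 0, 0, 2, 0, 1] [], .code 1318, .ext 0 5 [0, 2, 0, 2, 0, 1] [4, 4, 3], .code 832, .ext 0 12 [0, 0, 0, 2, 0] [8, 11], .code 64] [] (some (3, 3))),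
  (.pair 1 3865 953, .walk ⟨0, 1, 0⟩ [.code 1318, .ext 0 12 [0, 1, 2, 0, 2, 0, 1, 2, 0] [], .code 832, .ext 0 13 [0, 0, 0, 0, 1, 2, 0, 1, 2] [14], .code 64, .ext 0 6 [0, 1, 0, 0, 0, 1, 2] [], .code 1024, .ext 0 5 [0, 0, 1, 0, 1, 0, 1, 0] [4, 4, 3]] [] (some (3, 0)))]

/-- The certificate, apart from the group of codes. -/
def data (N : ℕ) (mul : ℕ → ℕ → ℕ) (word : ℕ → List ℕ) : Data where
  N := N
  mul := mul
  gens := gens
  word := word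
  K := 1
  dgens := dgens
  rels := rels
  defs := defs
  facts := facts0
  live := []
  reps := []
  close := [[]]
  n := 1

end CfsgLib.HSRec.Cert.LoopBad
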