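import Cfsg.Agent.Lib.CodeCert.Check

/-!
Generated data of a certificate.
-/

set_option autoImplicit false
set_option maxRecDepth 100000

namespace CfsgLib.HSRec.Cert.TriC

open CfsgLib.CodeCert

/-- Generating codes. -/
def gens : List ℕ := [1, 2, 4, 8, 16, 64, 128]

/-- The generators of the normalised subgroup with their images. -/
def dgens : List (List (ℕ × ℕ)) := [[(904, 6638), (2816, 3166), (8, 3171)]]

/-- The relations. -/
def rels : List (List Tok) := [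
  [.s 0, .s 0],
  [.s 0, .c 911, .s 0, .c 911, .s 0, .c 911],
  [.s 0, .c 1482, .s 0, .c 1482, .s 0, .c 1482, .c 901]]

/-- The words of the nodes. -/
def defs : List (ℕ × ℕ × ℕ) := [
  (0, 0, 0)]

/-- Part 0 of the identities. -/
def facts0 : List (Concl × Why) := [
  (.pair 0 2 2, .def'),
  (.pair 0 8 8, .def'),
  (.pair 0 16 16, .def'),
  (.pair 0 64 64, .def'),
  (.pair 0 128 128, .def'),
  (.edge 0 0 0 0 1 0, .def'),
  (.edge 0 0 1 0 0 0, .walk ⟨0, 0, 0⟩ [.ext 0 5 [] []] [] (some (0, 0))),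
  (.pair 1 3171 8, .walk ⟨8, 0, 0⟩ [.ext 0 5 [] [1]] [.ext 0 5 [2] []] none),
  (.pair 1 5733 16, .walk ⟨16, 0, 0⟩ [.ext 0 5 [] [2]] [.ext 0 5 [0, 0, 0, 1, 0, 1, 0, 1, 0, 1] []] none),
  (.pair 1 41 3138, .walk ⟨384, 0, 0⟩ [.ext 0 5 [] [3, 4, 3]] [.ext 0 5 [0, 0, 2, 0, 1, 2, 0, 2] [3, 4]] none),
  (.pair 1 900 896, .walk ⟨512, 0, 0⟩ [.ext 0 5 [] [4, 3, 4]] [.ext 0 5 [2, 0] [3]] none),
  (.edge 0 3180 1 911 1 2, .walk ⟨911, 1, 0⟩ [.code 911, .ext 0 6 [] [], .code 911, .ext 0 5 [0, 0, 0, 0, 2, 0, 2] [0], .code 911] [] (some (1, 2))),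
  (.edge 0 7651 1 283 1 1481, .walk ⟨283, 1, 0⟩ [.code 1482, .ext 0 6 [] [], .code 901, .code 1482, .ext 0 5 [0, 2, 0] [0, 4, 3], .code 1482] [] (some (2, 2))),
  (.pair 1 5716 929, .walk ⟨2, 1, 0⟩ [.code 901, .code 1482, .ext 0 12 [0, 0, 0, 0, 2, 0, 2] [7], .code 1482, .ext 0 12 [0, 0, 0, 1, 0, 2] [], .code 1482, .ext 0 11 [0, 0, 1, 0, 1, 0, 1, 0] []] [] (some (2, 0)))]

/-- The certificate, apart from the group of codes. -/
def data (N : ℕ) (mul : ℕ → ℕ → ℕ) (word : ℕ → List ℕ) : Data where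
  N := N
  mul := mul
  gens := gens
  word := word
  K := 1
  dgens := dgens
  rels := rels
  defs := defs
  facts := facts0
  live := []
  reps := []
  close := [[]]
  n := 1

end CfsgLib.HSRec.Cert.TriC
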