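import Cfsg.Agent.Lib.HSRec.Cert.Alg
import Cfsg.Agent.Lib.HSRec.Cert.Full
import Cfsg.Agent.Lib.HSRec.Cert.TriA
import Cfsg.Agent.Lib.HSRec.Cert.TriB
import Cfsg.Agent.Lib.HSRec.Cert.TriC
import Cfsg.Agent.Lib.HSRec.Cert.LoopBad
import Cfsg.Agent.Lib.CodeCert.Kill

/-!
The checks of the certificates.
-/

set_option autoImplicit false
set_option maxRecDepth 100000
set_option Elab.async false

namespace CfsgLib.HSRec.Cert

open CfsgLib.CodeCert

/-- The closed certificate. -/
def fullD : Data := Full.data 7680 hMul hWord
/-- The certificate against the first false value at the triangle. -/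
def triAD : Data := TriA.data 7680 hMul hWord
/-- The certificate against the second false value at the triangle. -/
def triBD : Data := TriB.data 7680 hMul hWord
/-- The certificate against the third false value at the triangle. -/
def triCD : Data := TriC.data 7680 hMul hWord
/-- The certificate against the false value at the loop. -/
def loopD : Data := LoopBad.data 7680 hMul hWord

theorem triA_kill : killOk triAD 1 [10] [7, 7, 7] = true := by decide +kernel

theorem triB_kill : killOk triBD 1 [15] [8, 10, 11, 12, 11, 12] = true := by decide +kernel

theorem triC_kill : killOk triCD 1 [13] [8, 9, 10, 9, 10] = true := by decide +kernel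

theorem loop_kill : killOk loopD 1 [15] [7, 9, 11, 10] = true := by decide +kernel

theorem full_facts : factsOk fullD = true := by decide +kernel

theorem full_end : endOk fullD = true := by decide +kernel

end CfsgLib.HSRec.Cert
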