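import Cfsg.Agent.Lib.HSRec.Cert.Chains
import Cfsg.Agent.Lib.HSRec.Cert.Check
import Cfsg.Agent.Lib.CodeCert.Iso

/-!
The relations of the completion hold for every coded centraliser with an exchanging element.
-/

set_option autoImplicit false
set_option maxRecDepth 100000

namespace CfsgLib.HSRec.Cert

open CfsgLib.CodeCert

variable {G : Type*} [Group G] {t : G} {el : ℕ → G} {n : G}

theorem lt_of_mul (C : Code t el) {c d : ℕ} (hc : c < 7680) (hd : d < 7680) : hMul c d < 7680 :=
  (C.mul c d hc hd).1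

theorem el_mul (C : Code t el) {c d : ℕ} (hc : c < 7680) (hd : d < 7680) : el c * el d = el (hMul c d) :=
  (C.mul c d hc hd).2

theorem el_eq (C : Code t el) {a b c d : ℕ} (ha : a < 7680) (hb : b < 7680) (hc : c < 7680) (hd : d < 7680)
    (h : hMul a b = hMul c d) : el a * el b = el c * el d := by
  rw [el_mul C ha hb, el_mul C hc hd, h]

theorem code_eq (C : Code t el) {a b c d : ℕ} (ha : a < 7680) (hb : b < 7680) (hc : c < 7680) (hd : d < 7680)
    (h : el a * el b = el c * el d) : hMul a b = hMul c d := by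
  rw [el_mul C ha hb, el_mul C hc hd] at h
  exact C.inj _ _ (lt_of_mul C ha hb) (lt_of_mul C hc hd) h

theorem dPairs_lt : ∀ p ∈ dPairs, p.1 < 7680 ∧ p.2 < 7680 := by decide

theorem dWordVal_conj (C : Code t el) (A : Amal el n) : ∀ w : List ℕ,
    (dWordVal w).1 < 7680 ∧ (dWordVal w).2 < 7680 ∧ n * el (dWordVal w).1 = el (dWordVal w).2 * n
  | [] => by simp [dWordVal, C.one]
  | g :: w => by
    obtain ⟨h1, h2, h3⟩ := dWordVal_conj C A w
    have hx : (dPairs.getD g (0, 0)).1 < 7680 ∧ (dPairs.getD g (0, 0)).2 < 7680 ∧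
        n * el (dPairs.getD g (0, 0)).1 = el (dPairs.getD g (0, 0)).2 * n := by
      rcases lt_or_ge g dPairs.length with hg | hg
      · have hm : dPairs.getD g (0, 0) ∈ dPairs := by
          rw [List.getD_eq_getElem _ _ hg]; exact List.getElem_mem _
        exact ⟨(dPairs_lt _ hm).1, (dPairs_lt _ hm).2, A.conj _ hm⟩
      · rw [List.getD_eq_default _ _ hg]
        simp [C.one]
    simp only [dWordVal]
    refine ⟨lt_of_mul C hx.1 h1, lt_of_mul C hx.2.1 h2, ?_⟩
    rw [← el_mul C hx.1 h1, ← el_mul C hx.2.1 h2, ← mul_assoc, hx.2.2, mul_assoc, h3, mul_assoc]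

theorem inTab_conj (C : Code t el) (A : Amal el n) {a b : ℕ} (h : inTab a b = true) :
    a < 7680 ∧ b < 7680 ∧ n * el a = el b * n ∧ el a * n = n * el b := by
  obtain ⟨e, he, h'⟩ := List.any_eq_true.1 h
  simp only [Bool.and_eq_true] at h'
  have hw := of_decide_eq_true (List.all_eq_true.1 dTab_ok e he)
  obtain ⟨h1, h2, h3⟩ := dWordVal_conj C A e.2.2
  rw [hw] at h1 h2 h3
  simp only at h1 h2 h3
  rw [Nat.eq_of_beq_eq_true h'.1] at h1 h3
  rw [Nat.eq_of_beq_eq_true h'.2] at h2 h3
  refine ⟨h1, h2, h3, ?_⟩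
  have e1 : el b = n * el a * n := by rw [h3, mul_assoc, A.sq, mul_one]
  rw [e1, ← mul_assoc, ← mul_assoc, A.sq, one_mul]

/-- The element of one of the three paths. -/
def pathEl (el : ℕ → G) (n : G) (i : ℕ) : G := n * el (pathP.getD i 0) * (n * el (pathQ.getD i 0))

theorem path_lt : ∀ i < 3, pathP.getD i 0 < 7680 ∧ pathQ.getD i 0 < 7680 := by decide

theorem entry_spec (C : Code t el) (A : Amal el n) {i j k a b c z : ℕ}
    (h : entryOk (i, j, k, a, b, c, z) = true) :
    pathEl el n i * el k = el z * pathEl el n j := by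
  simp only [entryOk, Bool.and_eq_true, Nat.blt_eq] at h
  obtain ⟨⟨⟨⟨⟨⟨⟨⟨⟨⟨hi, hj⟩, hk⟩, ha⟩, hb⟩, hc⟩, hz⟩, h1⟩, h2⟩, e1⟩, e2⟩ := h
  obtain ⟨hpi, hqi⟩ := path_lt i hi
  obtain ⟨hpj, hqj⟩ := path_lt j hj
  have E1 := el_eq C hqi hk ha hqj (Nat.eq_of_beq_eq_true e1)
  have E2 := el_eq C hpi hb hc hpj (Nat.eq_of_beq_eq_true e2)
  obtain ⟨-, -, hab, -⟩ := inTab_conj C A h1
  obtain ⟨-, -, hcz, -⟩ := inTab_conj C A h2
  unfold pathEl
  calc n * el (pathP.getD i 0) * (n * el (pathQ.getD i 0)) * el k
      = n * el (pathP.getD i 0) * (n * (el (pathQ.getD i 0) * el k)) := by simp only [mul_assoc]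
    _ = n * el (pathP.getD i 0) * ((n * el a) * el (pathQ.getD j 0)) := by rw [E1]; simp only [mul_assoc]
    _ = n * (el (pathP.getD i 0) * el b) * (n * el (pathQ.getD j 0)) := by rw [hab]; simp only [mul_assoc]
    _ = (n * el c) * el (pathP.getD j 0) * (n * el (pathQ.getD j 0)) := by rw [E2]; simp only [mul_assoc]
    _ = _ := by rw [hcz]; simp only [mul_assoc]

/-- A listed move. -/
theorem path_move (C : Code t el) (A : Amal el n) (m : ℕ) (hm : m < entries.length) :
    pathEl el n (entries[m]).1 * el (entries[m]).2.2.1 =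
      el (entries[m]).2.2.2.2.2.2 * pathEl el n (entries[m]).2.1 :=
  entry_spec C A (List.all_eq_true.1 entries_ok _ (List.getElem_mem hm))

/-- A system of the certificates. -/
theorem mkSys (C : Code t el) (A : Amal el n) (D : Data) (hN : D.N = 7680) (hmul : D.mul = hMul) (hK : D.K = 1)
    (hd : D.dgens.getD 0 [] = dPairs) (hrel : ∀ w ∈ D.rels, wEval D el (fun _ => n) w = 1) :
    CodeCert.Sys D el (fun _ => n) where
  pos := by rw [hN]; norm_num
  mul0 := by rw [hmul]; decide +kernel
  mul c d hc hd := by rw [hN] at hc hd; rw [hmul]; exact el_mul C hc hd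
  lt c d hc hd := by rw [hN] at hc hd ⊢; rw [hmul]; exact lt_of_mul C hc hd
  inj c d hc hd := by rw [hN] at hc hd; exact C.inj c d hc hd
  conj k hk x hx := by
    obtain rfl : k = 0 := by omega
    rw [hd] at hx
    exact A.conj x hx
  rel := hrel

theorem eval_base (A : Amal el n) (D : Data) (hK : D.K = 1) :
    wEval D el (fun _ => n) [.s 0, .s 0] = 1 ∧
      wEval D el (fun _ => n) [.s 0, .c 911, .s 0, .c 911, .s 0, .c 911] = 1 := by
  refine ⟨?_, ?_⟩
  · simp [wEval, tokEl, sx, hK, A.sq]
  · have h := A.cube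
    rw [pow_succ, pow_succ, pow_one] at h
    simpa [wEval, tokEl, sx, hK, hC, mul_assoc] using h

theorem eval_tri (D : Data) (hK : D.K = 1) (c : ℕ) :
    wEval D el (fun _ => n) [.s 0, .c 1482, .s 0, .c 1482, .s 0, .c 1482, .c c] = (n * el 1482) ^ 3 * el c := by
  rw [pow_succ, pow_succ, pow_one]
  simp [wEval, tokEl, sx, hK, mul_assoc]

theorem eval_tri_nil (D : Data) (hK : D.K = 1) :
    wEval D el (fun _ => n) [.s 0, .c 1482, .s 0, .c 1482, .s 0, .c 1482] = (n * el 1482) ^ 3 := by
  rw [pow_succ, pow_succ, pow_one]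
  simp [wEval, tokEl, sx, hK, mul_assoc]

theorem tri_moves : inTab 32 1 = true ∧ hMul 1 1482 = hMul 1482 4 ∧ inTab 4 4 = true ∧
    hMul 4 1482 = hMul 1482 1 ∧ inTab 1 32 = true ∧ hMul 32 1482 = hMul 1482 32 ∧ hMul 1482 283 = 0 ∧
    hMul 37 37 = 0 ∧ hMul 901 928 = 0 ∧ hMul 928 901 = 0 := by decide +kernel

/-- The value at the triangle. -/
theorem tri_one (C : Code t el) (A : Amal el n) : (n * el 1482) ^ 3 = 1 := by
  obtain ⟨t1, k1, t2, k2, t3, k3, hki, i37, i901, i928⟩ := tri_moves
  have st : ∀ {y b z : ℕ}, inTab y b = true → hMul b 1482 = hMul 1482 z → z < 7680 →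
      el y * (n * el 1482) = n * el 1482 * el z := by
    intro y b z h e hz
    obtain ⟨-, hb, -, h'⟩ := inTab_conj C A h
    rw [← mul_assoc, h', mul_assoc, el_eq C hb (by norm_num) (by norm_num) hz e, mul_assoc]
  set g := n * el 1482 with hg
  have e1 : el 32 * g = g * el 4 := st t1 k1 (by norm_num)
  have e2 : el 4 * g = g * el 1 := st t2 k2 (by norm_num)
  have e3 : el 1 * g = g * el 32 := st t3 k3 (by norm_num)
  have hcomm : el 32 * g ^ 3 = g ^ 3 * el 32 := by
    rw [pow_succ, pow_succ, pow_one]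
    calc el 32 * (g * g * g) = (el 32 * g) * g * g := by simp only [mul_assoc]
      _ = g * ((el 4 * g) * g) := by rw [e1]; simp only [mul_assoc]
      _ = g * g * (el 1 * g) := by rw [e2]; simp only [mul_assoc]
      _ = g * g * g * el 32 := by rw [e3]; simp only [mul_assoc]
  have hmem : g ^ 3 ∈ Subgroup.centralizer ({t} : Set G) := by
    rw [Subgroup.mem_centralizer_singleton_iff, ← C.t_eq]
    exact hcomm.symm
  obtain ⟨c, hc, ec⟩ := C.surj _ hmem
  have hcg : el c * g = g * el c := by rw [ec, ← pow_succ, ← pow_succ']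
  set e := hMul (hMul 1482 c) 283
  have he : e < 7680 := lt_of_mul C (lt_of_mul C (by norm_num) hc) (by norm_num)
  have hk : el 1482 * el 283 = 1 := by rw [el_mul C (by norm_num) (by norm_num), hki, C.one]
  have hce : el c * n = n * el e := by
    calc el c * n = el c * (n * (el 1482 * el 283)) := by rw [hk, mul_one]
      _ = (el c * g) * el 283 := by rw [hg]; simp only [mul_assoc]
      _ = n * ((el 1482 * el c) * el 283) := by rw [hcg, hg]; simp only [mul_assoc]
      _ = n * el e := by rw [el_mul C (by norm_num) hc, el_mul C (lt_of_mul C (by norm_num) hc) (by norm_num)]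
  have hn32 : n * el 32 = el 1 * n := (inTab_conj C A t1).2.2.1
  have hn1 : el 1 * n = n * el 32 := hn32.symm
  have hce' : n * el c = el e * n := by
    have := congrArg (fun x => n * x * n) hce
    simp only [mul_assoc, A.sq, mul_one] at this
    rwa [← mul_assoc n n, A.sq, one_mul] at this
  have h32e : el e * el 32 = el 32 * el e := by
    have := Subgroup.mem_centralizer_singleton_iff.1 (C.mem e he)
    rw [← C.t_eq] at this
    exact this
  have hc1 : el c * el 1 = el 1 * el c := by
    refine mul_right_cancel (b := n) ?_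
    calc el c * el 1 * n = el c * n * el 32 := by rw [mul_assoc, hn1, ← mul_assoc]
      _ = n * (el 32 * el e) := by rw [hce, mul_assoc, h32e]
      _ = el 1 * (n * el e) := by rw [← mul_assoc, hn32, mul_assoc]
      _ = el 1 * el c * n := by rw [← hce, mul_assoc]
  have hc1' := code_eq C hc (by norm_num) (by norm_num) hc hc1
  have hin := List.all_eq_true.1 dTab_complete c (List.mem_range.2 hc)
  simp only [Bool.or_eq_true, Bool.not_eq_true', List.any_eq_true] at hin
  rcases hin with hin | ⟨x, hx, hxc⟩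
  · rw [hc1', Nat.beq_refl] at hin; simp at hin
  obtain rfl := Nat.eq_of_beq_eq_true hxc
  obtain ⟨-, hd', hconj, -⟩ := inTab_conj C A (a := x.1) (b := x.2.1)
    (List.any_eq_true.2 ⟨x, hx, by simp⟩)
  have hxe : x.2.1 = e := C.inj _ _ hd' he (mul_right_cancel (hconj.symm.trans hce'))
  have hcand := List.all_eq_true.1 tri_cand x hx
  simp only [Bool.or_eq_true, Bool.not_eq_true', List.contains_iff_mem] at hcand
  rcases hcand with hcand | hcand
  · rw [hxe, Nat.beq_refl] at hcand; simp at hcand
  have hinv : ∀ {v : ℕ}, x.1 < 7680 → v < 7680 → hMul x.1 v = 0 → g ^ 3 * el v = 1 := fun h1 h2 h3 => by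
    rw [← ec, el_mul C h1 h2, h3, C.one]
  simp only [triVals, List.mem_cons, List.not_mem_nil, or_false] at hcand
  rcases hcand with h | h | h | h
  · rw [← ec, h, C.one]
  · exfalso
    refine (mkSys C A triAD rfl rfl rfl rfl fun w hw => ?_).false_of_killOk triA_kill
    change w ∈ ([_, _, _] : List (List Tok)) at hw
    simp only [List.mem_cons, List.not_mem_nil, or_false] at hw
    rcases hw with rfl | rfl | rfl
    exacts [(eval_base A triAD rfl).1, (eval_base A triAD rfl).2,
      (eval_tri triAD rfl 37).trans (hinv hc (by norm_num) (by rw [h]; exact i37))]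
  · exfalso
    refine (mkSys C A triBD rfl rfl rfl rfl fun w hw => ?_).false_of_killOk triB_kill
    change w ∈ ([_, _, _] : List (List Tok)) at hw
    simp only [List.mem_cons, List.not_mem_nil, or_false] at hw
    rcases hw with rfl | rfl | rfl
    exacts [(eval_base A triBD rfl).1, (eval_base A triBD rfl).2,
      (eval_tri triBD rfl 928).trans (hinv hc (by norm_num) (by rw [h]; exact i901))]
  · exfalso
    refine (mkSys C A triCD rfl rfl rfl rfl fun w hw => ?_).false_of_killOk triC_kill
    change w ∈ ([_, _, _] : List (List Tok)) at hw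
    simp only [List.mem_cons, List.not_mem_nil, or_false] at hw
    rcases hw with rfl | rfl | rfl
    exacts [(eval_base A triCD rfl).1, (eval_base A triCD rfl).2,
      (eval_tri triCD rfl 901).trans (hinv hc (by norm_num) (by rw [h]; exact i928))]

theorem loop_inv : hMul 64 64 = 0 ∧ hMul 832 576 = 0 ∧ hMul 5506 1339 = 0 ∧ hMul 5515 1318 = 0 := by decide +kernel

/-- The left side of the loop relation, without its value. -/
def loopEl (el : ℕ → G) (n : G) : G := n * el 1024 * n * el 64 * n * el 832 * n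

theorem loopEl_eq (C : Code t el) (A : Amal el n) : loopEl el n = pathEl el n 0 * (pathEl el n 1)⁻¹ := by
  obtain ⟨i64, i832, -, -⟩ := loop_inv
  have h64 : el 64 * el 64 = 1 := by rw [el_mul C (by norm_num) (by norm_num), i64, C.one]
  have h832 : el 832 * el 576 = 1 := by rw [el_mul C (by norm_num) (by norm_num), i832, C.one]
  rw [eq_mul_inv_iff_mul_eq]
  unfold loopEl pathEl
  simp only [pathP, pathQ, List.getD_cons_zero, List.getD_cons_succ, C.one, mul_one]
  calc n * el 1024 * n * el 64 * n * el 832 * n * (n * el 576 * (n * el 64))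
      = n * el 1024 * n * el 64 * n * el 832 * (n * n) * el 576 * n * el 64 := by simp only [mul_assoc]
    _ = n * el 1024 * n * el 64 * n * (el 832 * el 576) * (n * el 64) := by rw [A.sq, mul_one]; simp only [mul_assoc]
    _ = n * el 1024 * n * el 64 * (n * n) * el 64 := by rw [h832, mul_one]; simp only [mul_assoc]
    _ = n * el 1024 * n * (el 64 * el 64) := by rw [A.sq, mul_one]; simp only [mul_assoc]
    _ = _ := by rw [h64, mul_one]

theorem eval_loop (D : Data) (hK : D.K = 1) (c : ℕ) :
    wEval D el (fun _ => n) [.s 0, .c 1024, .s 0, .c 64, .s 0, .c 832, .s 0, .c c] = loopEl el n * el c := by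
  simp [wEval, tokEl, sx, hK, loopEl, mul_assoc]

/-- The value at the loop. -/
theorem loop_one (C : Code t el) (A : Amal el n) : loopEl el n * el 1339 = 1 := by
  set g₀ := pathEl el n 0 with hg₀
  set g₁ := pathEl el n 1 with hg₁
  set g₂ := pathEl el n 2 with hg₂
  have M := path_move C A
  have m0 : g₀ * el 2825 = el 32 * g₀ := M 0 (by decide)
  have m1 : g₁ * el 2825 = el 32 * g₁ := M 1 (by decide)
  have m2 : g₂ * el 2825 = el 32 * g₂ := M 2 (by decide)
  have a1 : g₀ * el 32 = el 2857 * g₀ := M 3 (by decide)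
  have b1 : g₁ * el 32 = el 3170 * g₁ := M 4 (by decide)
  have c1 : g₂ * el 32 = el 3139 * g₂ := M 5 (by decide)
  have a2 : g₀ * el 1 = el 1 * g₀ := M 6 (by decide)
  have b2 : g₁ * el 1 = el 60 * g₁ := M 7 (by decide)
  have c2 : g₂ * el 1 = el 29 * g₂ := M 8 (by decide)
  have a3 : g₀ * el 8 = el 9 * g₀ := M 9 (by decide)
  have b3 : g₁ * el 8 = el 61 * g₁ := M 10 (by decide)
  have c3 : g₂ * el 8 = el 1 * g₂ := M 11 (by decide)
  have p0 : g₀ * el 2564 = el 3860 * g₂ := M 12 (by decide)
  have p1 : g₁ * el 2564 = el 6483 * g₀ := M 13 (by decide)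
  have p2 : g₂ * el 2564 = el 53 * g₁ := M 14 (by decide)
  have q0 : g₀ * el 80 = el 929 * g₁ := M 15 (by decide)
  have q1 : g₁ * el 80 = el 900 * g₀ := M 16 (by decide)
  have q2 : g₂ * el 80 = el 5752 * g₂ := M 17 (by decide)
  have ratio : ∀ {g h y z w : G}, g * y = z * g → h * y = w * h → z * (g * h⁻¹) = (g * h⁻¹) * w := by
    intro g h y z w e1 e2
    refine mul_right_cancel (b := h) ?_
    rw [mul_assoc z, inv_mul_cancel_right, ← e1, mul_assoc _ w h, ← e2, ← mul_assoc, inv_mul_cancel_right]
  set u := g₀ * g₁⁻¹ with hu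
  set v := g₁ * g₂⁻¹ with hv
  have e01 : u * g₁ = g₀ := inv_mul_cancel_right _ _
  have e12 : v * g₂ = g₁ := inv_mul_cancel_right _ _
  have mem : ∀ x : G, el 32 * x = x * el 32 → ∃ c, c < 7680 ∧ el c = x := fun x hx => C.surj x (by
    rw [Subgroup.mem_centralizer_singleton_iff, ← C.t_eq]
    exact hx.symm)
  obtain ⟨a, ha, ea⟩ := mem u (ratio m0 m1)
  obtain ⟨b, hb, eb⟩ := mem v (ratio m1 m2)
  have lm := fun {c d : ℕ} (hc : c < 7680) (hd : d < 7680) => lt_of_mul C hc hd
  have cu : ∀ {z w : ℕ}, z < 7680 → w < 7680 → el z * u = u * el w → Nat.beq (hMul z a) (hMul a w) = true := by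
    intro z w hz hw e
    rw [code_eq C hz ha ha hw (by rw [ea]; exact e), Nat.beq_refl]
  have cv : ∀ {z w : ℕ}, z < 7680 → w < 7680 → el z * v = v * el w → Nat.beq (hMul z b) (hMul b w) = true := by
    intro z w hz hw e
    rw [code_eq C hz hb hb hw (by rw [eb]; exact e), Nat.beq_refl]
  have hA := List.all_eq_true.1 loop_first a (List.mem_range.2 ha)
  simp only [cu (by norm_num) (by norm_num) (ratio a1 b1), cu (by norm_num) (by norm_num) (ratio a2 b2),
    cu (by norm_num) (by norm_num) (ratio a3 b3), Bool.and_self, Bool.not_true, Bool.false_or,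
    List.contains_iff_mem] at hA
  have hB := List.all_eq_true.1 loop_second b (List.mem_range.2 hb)
  simp only [cv (by norm_num) (by norm_num) (ratio b1 c1), cv (by norm_num) (by norm_num) (ratio b2 c2),
    cv (by norm_num) (by norm_num) (ratio b3 c3), Bool.and_self, Bool.not_true, Bool.false_or,
    List.contains_iff_mem] at hB
  have r1 : u * el 6483 * (u * v) = el 3860 := by
    refine mul_right_cancel (b := g₂) ?_
    calc u * el 6483 * (u * v) * g₂ = u * (el 6483 * (u * (v * g₂))) := by simp only [mul_assoc]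
      _ = u * (g₁ * el 2564) := by rw [e12, e01, p1]
      _ = _ := by rw [← mul_assoc, e01, p0]
  have r2 : v * el 53 = el 6483 * u := by
    refine mul_right_cancel (b := g₁) ?_
    calc v * el 53 * g₁ = v * g₂ * el 2564 := by rw [mul_assoc v, ← p2]; simp only [mul_assoc]
      _ = el 6483 * u * g₁ := by rw [e12, p1, mul_assoc, e01]
  have r3 : u * el 900 * u = el 929 := by
    refine mul_right_cancel (b := g₁) ?_
    calc u * el 900 * u * g₁ = u * (el 900 * (u * g₁)) := by simp only [mul_assoc]
      _ = u * (g₁ * el 80) := by rw [e01, q1]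
      _ = _ := by rw [← mul_assoc, e01, q0]
  have r4 : v * el 5752 = el 900 * (u * v) := by
    refine mul_right_cancel (b := g₂) ?_
    calc v * el 5752 * g₂ = v * g₂ * el 80 := by rw [mul_assoc v, ← q2]; simp only [mul_assoc]
      _ = el 900 * (u * (v * g₂)) := by rw [e12, q1, e01]
      _ = _ := by simp only [mul_assoc]
  rw [← ea, ← eb] at r1 r2 r4
  rw [← ea] at r3
  rw [el_mul C ha hb, el_mul C ha (by norm_num), el_mul C (lm ha (by norm_num)) (lm ha hb)] at r1
  rw [el_mul C ha (by norm_num), el_mul C (lm ha (by norm_num)) ha] at r3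
  rw [el_mul C ha hb] at r4
  have s1 := C.inj _ _ (lm (lm ha (by norm_num)) (lm ha hb)) (by norm_num) r1
  have s2 := code_eq C hb (by norm_num) (by norm_num) ha r2
  have s3 := C.inj _ _ (lm (lm ha (by norm_num)) ha) (by norm_num) r3
  have s4 := code_eq C hb (by norm_num) (by norm_num) (lm ha hb) r4
  have hpair : loopPair a b = true := by
    simp only [loopPair, s1, s2, s3, s4, Nat.beq_refl, Bool.and_self]
  have hab := List.all_eq_true.1 (List.all_eq_true.1 loop_pair a hA) b hB
  simp only [hpair, Bool.not_true, Bool.false_or, Bool.or_eq_true] at hab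
  obtain ⟨-, -, i06, i15⟩ := loop_inv
  rcases hab with h | h
  · rw [loopEl_eq C A, ← hg₀, ← hg₁, ← hu, ← ea, el_mul C ha (by norm_num), Nat.eq_of_beq_eq_true h, i06, C.one]
  · exfalso
    refine (mkSys C A loopD rfl rfl rfl rfl fun w hw => ?_).false_of_killOk loop_kill
    change w ∈ ([_, _, _, _] : List (List Tok)) at hw
    simp only [List.mem_cons, List.not_mem_nil, or_false] at hw
    rcases hw with rfl | rfl | rfl | rfl
    · exact (eval_base A loopD rfl).1
    · exact (eval_base A loopD rfl).2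
    · exact (eval_tri_nil loopD rfl).trans (tri_one C A)
    · rw [eval_loop loopD rfl, loopEl_eq C A, ← hg₀, ← hg₁, ← hu, ← ea, el_mul C ha (by norm_num),
        Nat.eq_of_beq_eq_true h, i15, C.one]

/-- The relations of the closed certificate hold. -/
theorem sysFull (C : Code t el) (A : Amal el n) : CodeCert.Sys fullD el (fun _ => n) :=
  mkSys C A fullD rfl rfl rfl rfl fun w hw => by
    change w ∈ ([_, _, _, _] : List (List Tok)) at hw
    simp only [List.mem_cons, List.not_mem_nil, or_false] at hw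
    rcases hw with rfl | rfl | rfl | rfl
    · exact (eval_base A fullD rfl).1
    · exact (eval_base A fullD rfl).2
    · exact (eval_tri_nil fullD rfl).trans (tri_one C A)
    · exact (eval_loop fullD rfl 1339).trans (loop_one C A)

end CfsgLib.HSRec.Cert
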