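import Cfsg.Agent.Lib.HSRec.Cert.Alg

/-!
The product of codes is the product of the elements as soon as the generating rules hold.
-/

set_option autoImplicit false
set_option maxRecDepth 100000
set_option Elab.async false

namespace CfsgLib.HSRec.Cert

/-- The generators of the normal subgroup. -/
def qGens : List ℕ := [1, 2, 4, 8, 16]

/-- The row of a representative acting on the normal subgroup. -/
def actC (k s : ℕ) : ℕ := hGet actT 6 k s

/-- The product of two representatives. -/
def cocC (k l : ℕ) : ℕ := hGet cocT 13 k l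

/-- A code times a generator outside the normal subgroup. -/
def cayStep (c g : ℕ) : ℕ := hQ (c % 64) (cocC (c / 64) (g / 64) % 64) + 64 * (cocC (c / 64) (g / 64) / 64)

theorem q_words : (List.range 64).all (fun r => (hWord r).all (fun g => qGens.contains g) &&
    (List.range 64).all fun s => Nat.blt (hQ r s) 64 && Nat.beq ((hWord s).foldl hQ r) (hQ r s)) = true := by
  decide +kernel

theorem rep_words : (List.range 120).all (fun k =>
    (wordT.getD k []).all (fun g => Nat.beq g 64 || Nat.beq g 128) &&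
      (List.range 64).all fun s => Nat.blt (actC k s) 64 &&
        Nat.beq ((wordT.getD k []).foldr (fun g a => actC (g / 64) a) s) (actC k s)) = true := by
  decide +kernel

theorem act_words : ([64, 128] : List ℕ).all (fun g => (List.range 64).all fun s =>
    Nat.beq ((hWord s).foldl (fun a j => hQ a (actC (g / 64) j)) 0) (actC (g / 64) s)) = true := by
  decide +kernel

theorem coc_words : (List.range 120).all (fun k => (List.range 120).all fun l =>
    Nat.blt (cocC k l) 7680 && Nat.beq ((wordT.getD l []).foldl cayStep (64 * k)) (cocC k l)) = true := by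
  decide +kernel

variable {G : Type*} [Group G]

/-- The element of a code from values of the seven generators. -/
def genEl (v : ℕ → G) (c : ℕ) : G := ((hWord c).map v).prod

/-- The element of a representative. -/
def repEl (v : ℕ → G) (k : ℕ) : G := ((wordT.getD k []).map v).prod

/-- The rules of the seven generators. -/
structure GenRules (v : ℕ → G) : Prop where
  q : ∀ r < 64, ∀ g ∈ qGens, genEl v r * v g = genEl v (hQ r g)
  act : ∀ g ∈ ([64, 128] : List ℕ), ∀ j ∈ qGens, v g * v j = genEl v (actC (g / 64) j) * v g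
  cay : ∀ k < 120, ∀ g ∈ ([64, 128] : List ℕ),
    repEl v k * v g = genEl v (cocC k (g / 64) % 64) * repEl v (cocC k (g / 64) / 64)

theorem hWord_split (c : ℕ) : hWord c = hWord (c % 64) ++ wordT.getD (c / 64) [] := by
  have h0 : wordT.getD 0 [] = [] := by decide +kernel
  unfold hWord
  rw [Nat.mod_mod, Nat.div_eq_of_lt (Nat.mod_lt c (by norm_num : 0 < 64)), h0, List.append_nil]

theorem genEl_split (v : ℕ → G) (c : ℕ) : genEl v c = genEl v (c % 64) * repEl v (c / 64) := by
  rw [genEl, hWord_split, List.map_append, List.prod_append]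
  rfl

theorem hWord_q {r : ℕ} (hr : r < 64) : ∀ g ∈ hWord r, g ∈ qGens := by
  intro g hg
  have h := List.all_eq_true.1 q_words r (List.mem_range.2 hr)
  simp only [Bool.and_eq_true, List.all_eq_true] at h
  exact List.contains_iff_mem.1 (h.1 g hg)

theorem hQ_spec {r s : ℕ} (hr : r < 64) (hs : s < 64) :
    hQ r s < 64 ∧ (hWord s).foldl hQ r = hQ r s := by
  have h := List.all_eq_true.1 q_words r (List.mem_range.2 hr)
  simp only [Bool.and_eq_true, List.all_eq_true, List.mem_range, Nat.blt_eq] at h
  exact ⟨(h.2 s hs).1, Nat.eq_of_beq_eq_true (h.2 s hs).2⟩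

theorem actC_spec {k s : ℕ} (hk : k < 120) (hs : s < 64) :
    actC k s < 64 ∧ (wordT.getD k []).foldr (fun g a => actC (g / 64) a) s = actC k s := by
  have h := List.all_eq_true.1 rep_words k (List.mem_range.2 hk)
  simp only [Bool.and_eq_true, List.all_eq_true, List.mem_range, Nat.blt_eq] at h
  exact ⟨(h.2 s hs).1, Nat.eq_of_beq_eq_true (h.2 s hs).2⟩

theorem rep_letters {k : ℕ} (hk : k < 120) : ∀ g ∈ wordT.getD k [], g = 64 ∨ g = 128 := by
  intro g hg
  have h := List.all_eq_true.1 rep_words k (List.mem_range.2 hk)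
  simp only [Bool.and_eq_true, List.all_eq_true, Bool.or_eq_true] at h
  exact (h.1 g hg).imp Nat.eq_of_beq_eq_true Nat.eq_of_beq_eq_true

theorem cocC_lt {k l : ℕ} (hk : k < 120) (hl : l < 120) :
    cocC k l < 7680 ∧ (wordT.getD l []).foldl cayStep (64 * k) = cocC k l := by
  have h := List.all_eq_true.1 (List.all_eq_true.1 coc_words k (List.mem_range.2 hk)) l (List.mem_range.2 hl)
  simp only [Bool.and_eq_true, Nat.blt_eq] at h
  exact ⟨h.1, Nat.eq_of_beq_eq_true h.2⟩

theorem qGens_lt : ∀ g ∈ qGens, g < 64 := by decide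

theorem genEl_zero (v : ℕ → G) : genEl v 0 = 1 := by
  have h : hWord 0 = [] := by decide +kernel
  rw [genEl, h]; rfl

namespace GenRules

variable {v : ℕ → G} (R : GenRules v)

include R

theorem q_fold : ∀ (w : List ℕ), (∀ g ∈ w, g ∈ qGens) → ∀ r < 64,
    w.foldl hQ r < 64 ∧ genEl v r * (w.map v).prod = genEl v (w.foldl hQ r)
  | [], _, r, hr => by simp [hr]
  | g :: w, hw, r, hr => by
    have hg := hw g (List.mem_cons_self ..)
    obtain ⟨h1, h2⟩ := q_fold w (fun x hx => hw x (List.mem_cons_of_mem _ hx)) (hQ r g)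
      (hQ_spec hr (qGens_lt g hg)).1
    refine ⟨h1, ?_⟩
    rw [List.map_cons, List.prod_cons, ← mul_assoc, R.q r hr g hg]
    exact h2

theorem q_mul {r s : ℕ} (hr : r < 64) (hs : s < 64) : genEl v r * genEl v s = genEl v (hQ r s) := by
  have h := (R.q_fold (hWord s) (hWord_q hs) r hr).2
  rw [(hQ_spec hr hs).2] at h
  exact h

theorem act_fold {g : ℕ} (hg : g ∈ ([64, 128] : List ℕ)) : ∀ (w : List ℕ), (∀ j ∈ w, j ∈ qGens) → ∀ a < 64,
    w.foldl (fun a j => hQ a (actC (g / 64) j)) a < 64 ∧
      genEl v a * v g * (w.map v).prod = genEl v (w.foldl (fun a j => hQ a (actC (g / 64) j)) a) * v g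
  | [], _, a, ha => by simp [ha]
  | j :: w, hw, a, ha => by
    have hj := hw j (List.mem_cons_self ..)
    have hk : g / 64 < 120 := by rcases List.mem_cons.1 hg with rfl | hg <;> simp_all
    have hlt := (actC_spec hk (qGens_lt j hj)).1
    obtain ⟨h1, h2⟩ := act_fold hg w (fun x hx => hw x (List.mem_cons_of_mem _ hx))
      (hQ a (actC (g / 64) j)) (hQ_spec ha hlt).1
    refine ⟨h1, ?_⟩
    rw [List.foldl_cons, List.map_cons, List.prod_cons, ← mul_assoc, mul_assoc (genEl v a) (v g) (v j),
      R.act g hg j hj, ← mul_assoc, R.q_mul ha hlt]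
    exact h2

theorem gen_q {g s : ℕ} (hg : g = 64 ∨ g = 128) (hs : s < 64) :
    v g * genEl v s = genEl v (actC (g / 64) s) * v g := by
  have hm : g ∈ ([64, 128] : List ℕ) := by simpa using hg
  have h := (R.act_fold hm (hWord s) (hWord_q hs) 0 (by norm_num)).2
  rw [genEl_zero, one_mul] at h
  rw [Nat.eq_of_beq_eq_true (List.all_eq_true.1 (List.all_eq_true.1 act_words g hm) s (List.mem_range.2 hs))] at h
  exact h

theorem word_q : ∀ (w : List ℕ), (∀ g ∈ w, g = 64 ∨ g = 128) → ∀ s < 64,
    w.foldr (fun g a => actC (g / 64) a) s < 64 ∧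
      (w.map v).prod * genEl v s = genEl v (w.foldr (fun g a => actC (g / 64) a) s) * (w.map v).prod
  | [], _, s, hs => by simp [hs]
  | g :: w, hw, s, hs => by
    have hg := hw g (List.mem_cons_self ..)
    obtain ⟨h1, h2⟩ := word_q w (fun x hx => hw x (List.mem_cons_of_mem _ hx)) s hs
    refine ⟨(actC_spec (by rcases hg with rfl | rfl <;> norm_num) h1).1, ?_⟩
    rw [List.map_cons, List.prod_cons, List.foldr_cons, mul_assoc, h2, ← mul_assoc, R.gen_q hg h1, mul_assoc]

theorem rep_q {k s : ℕ} (hk : k < 120) (hs : s < 64) : repEl v k * genEl v s = genEl v (actC k s) * repEl v k := by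
  have h := (R.word_q _ (rep_letters hk) s hs).2
  rw [(actC_spec hk hs).2] at h
  exact h

theorem cay_fold : ∀ (w : List ℕ), (∀ g ∈ w, g = 64 ∨ g = 128) → ∀ c < 7680,
    w.foldl cayStep c < 7680 ∧ genEl v c * (w.map v).prod = genEl v (w.foldl cayStep c)
  | [], _, c, hc => by simp [hc]
  | g :: w, hw, c, hc => by
    have hg := hw g (List.mem_cons_self ..)
    have hgl : g / 64 < 120 := by rcases hg with rfl | rfl <;> norm_num
    have hk : c / 64 < 120 := by omega
    have hu := (cocC_lt hk hgl).1
    have hq := (hQ_spec (Nat.mod_lt c (by norm_num : 0 < 64))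
      (Nat.mod_lt (cocC (c / 64) (g / 64)) (by norm_num : 0 < 64))).1
    have hst : cayStep c g < 7680 := by unfold cayStep; omega
    obtain ⟨h1, h2⟩ := cay_fold w (fun x hx => hw x (List.mem_cons_of_mem _ hx)) _ hst
    refine ⟨h1, ?_⟩
    rw [List.map_cons, List.prod_cons, ← mul_assoc, genEl_split v c, mul_assoc (genEl v (c % 64)),
      R.cay _ hk g (by simpa using hg), ← mul_assoc, R.q_mul (Nat.mod_lt _ (by norm_num)) (Nat.mod_lt _ (by norm_num))]
    rw [genEl_split v (cayStep c g)] at h2
    have e1 : cayStep c g % 64 = hQ (c % 64) (cocC (c / 64) (g / 64) % 64) := by unfold cayStep; omega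
    have e2 : cayStep c g / 64 = cocC (c / 64) (g / 64) / 64 := by unfold cayStep; omega
    rw [e1, e2] at h2
    exact h2

theorem rep_mul {k l : ℕ} (hk : k < 120) (hl : l < 120) : repEl v k * repEl v l = genEl v (cocC k l) := by
  have h := (R.cay_fold _ (rep_letters hl) (64 * k) (by omega)).2
  rw [(cocC_lt hk hl).2, genEl_split v (64 * k), Nat.mul_mod_right, genEl_zero, one_mul,
    Nat.mul_div_cancel_left _ (by norm_num : 0 < 64)] at h
  exact h

/-- The law of the codes. -/
theorem el_mul {c d : ℕ} (hc : c < 7680) (hd : d < 7680) :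
    hMul c d < 7680 ∧ genEl v c * genEl v d = genEl v (hMul c d) := by
  have hk : c / 64 < 120 := by omega
  have hl : d / 64 < 120 := by omega
  have hr := Nat.mod_lt c (by norm_num : 0 < 64)
  have hs := Nat.mod_lt d (by norm_num : 0 < 64)
  obtain ⟨ha, -⟩ := actC_spec hk hs
  obtain ⟨h1, -⟩ := hQ_spec hr ha
  obtain ⟨hu, -⟩ := cocC_lt hk hl
  obtain ⟨h2, -⟩ := hQ_spec h1 (Nat.mod_lt (cocC (c / 64) (d / 64)) (by norm_num : 0 < 64))
  have e : hMul c d = hQ (hQ (c % 64) (actC (c / 64) (d % 64))) (cocC (c / 64) (d / 64) % 64) +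
      64 * (cocC (c / 64) (d / 64) / 64) := rfl
  have hlt : hMul c d < 7680 := by rw [e]; omega
  refine ⟨hlt, ?_⟩
  calc genEl v c * genEl v d
      = genEl v (c % 64) * (repEl v (c / 64) * genEl v (d % 64)) * repEl v (d / 64) := by
        rw [genEl_split v c, genEl_split v d]; simp only [mul_assoc]
    _ = genEl v (c % 64) * genEl v (actC (c / 64) (d % 64)) * (repEl v (c / 64) * repEl v (d / 64)) := by
        rw [R.rep_q hk hs]; simp only [mul_assoc]
    _ = genEl v (hMul c d) := by
        rw [R.q_mul hr ha, R.rep_mul hk hl, genEl_split v (cocC (c / 64) (d / 64)), genEl_split v (hMul c d),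
          ← mul_assoc, R.q_mul h1 (Nat.mod_lt _ (by norm_num))]
        congr 2 <;> rw [e] <;> omega

end GenRules

end CfsgLib.HSRec.Cert
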