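import Cfsg.Agent.Lib.HSRec.Cert.ModelData
import Cfsg.Agent.Lib.HSRec.Cert.OfGens
import Cfsg.Agent.Lib.HSRec.Cert.Check
import Cfsg.Agent.Lib.Golay.HSSimple
import Cfsg.Agent.Lib.CodeCert.Iso

/-!
The group of the hundred-vertex graph satisfies the relations of the completion, and is generated by the coded
centraliser and the exchanging element.
-/

set_option autoImplicit false
set_option maxRecDepth 100000
set_option Elab.async false

namespace CfsgLib.HSRec.Cert

open CfsgLib.Golay CfsgLib.CodeCert

/-- The eight letters. -/
def letters : List ℕ := [1, 2, 4, 8, 16, 64, 128, 256]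

/-- The packed images under a letter. -/
def packedOf (g : ℕ) : ℕ :=
  if g = 1 then packed1 else if g = 2 then packed2 else if g = 4 then packed4 else if g = 8 then packed8
  else if g = 16 then packed16 else if g = 64 then packed64 else if g = 128 then packed128 else packed256

/-- The transpositions of a letter. -/
def swapsOf (g : ℕ) : List (ℕ × ℕ) :=
  if g = 1 then swaps1 else if g = 2 then swaps2 else if g = 4 then swaps4 else if g = 8 then swaps8
  else if g = 16 then swaps16 else if g = 64 then swaps64 else if g = 128 then swaps128 else swaps256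

/-- The image of a point under a letter. -/
def pApp (g i : ℕ) : ℕ := (packedOf g >>> (7 * i)) % 128

/-- The images under a letter. -/
def imgL (g : ℕ) : List ℕ := (List.range 100).map (pApp g)

/-- The image of a point under a word. -/
def app (w : List ℕ) (i : ℕ) : ℕ := w.foldr pApp i

theorem letters_ok : letters.all (fun g => HS.autOk (imgL g) && (List.range 100).all fun i =>
    Nat.beq ((imgL g).getD i 0) (pApp g i)) = true := by decide +kernel

/-- The transpositions of a letter as permutations. -/
def swapPerms (g : ℕ) : List (Equiv.Perm (Fin 100)) :=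
  (swapsOf g).map fun p => Equiv.swap (Fin.ofNat 100 p.1) (Fin.ofNat 100 p.2)

theorem swaps_prod : ∀ g ∈ letters, ∀ i : Fin 100, ((swapPerms g).prod i).val = pApp g i.val := by decide +kernel

theorem swaps_ne : ∀ g ∈ letters, (∀ p ∈ swapsOf g, Fin.ofNat 100 p.1 ≠ Fin.ofNat 100 p.2) ∧
    (swapsOf g).length % 2 = 0 := by decide +kernel

theorem imgL_valid {g : ℕ} (hg : g ∈ letters) : validL 100 (imgL g) = true := by
  have h := List.all_eq_true.1 letters_ok g hg
  simp only [Bool.and_eq_true, HS.autOk] at h
  exact h.1.1

/-- The permutation of a letter. -/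
noncomputable def permV (g : ℕ) : Equiv.Perm (Fin 100) :=
  if g ∈ letters then permOf (Equiv.refl (Fin 100)) (imgL g) else 1

theorem permV_val {g : ℕ} (hg : g ∈ letters) (i : Fin 100) : (permV g i).val = pApp g i.val := by
  rw [permV, if_pos hg]
  refine (permOf_apply (Equiv.refl (Fin 100)) (imgL_valid hg) i).trans ?_
  have h := List.all_eq_true.1 letters_ok g hg
  simp only [Bool.and_eq_true, List.all_eq_true, List.mem_range] at h
  exact Nat.eq_of_beq_eq_true (h.2 i.val i.isLt)

theorem permV_mem (g : ℕ) : permV g ∈ HS.hsGroup := by
  by_cases hg : g ∈ letters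
  · rw [HS.mem_hsGroup]
    constructor
    · rw [permV, if_pos hg]
      have h := List.all_eq_true.1 letters_ok g hg
      simp only [Bool.and_eq_true] at h
      exact HS.permOf_mem h.1
    · have e : permV g = (swapPerms g).prod := Equiv.ext fun i => Fin.ext (by rw [permV_val hg, swaps_prod g hg i])
      obtain ⟨hne, heven⟩ := swaps_ne g hg
      rw [e, map_list_prod, List.prod_eq_pow_card _ (-1)]
      · rw [List.length_map, swapPerms, List.length_map]
        exact Even.neg_one_pow (Nat.even_iff.2 heven)
      · intro u hu
        obtain ⟨q, hq, rfl⟩ := List.mem_map.1 hu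
        obtain ⟨p, hp, rfl⟩ := List.mem_map.1 hq
        exact Equiv.Perm.sign_swap (hne p hp)
  · rw [permV, if_neg hg]
    exact HS.hsGroup.one_mem

/-- A letter in the group of the graph. -/
noncomputable def vM (g : ℕ) : ↥HS.hsGroup := ⟨permV g, permV_mem g⟩

/-- A word in the group of the graph. -/
noncomputable def wM (w : List ℕ) : ↥HS.hsGroup := (w.map vM).prod

theorem wM_val : ∀ (w : List ℕ), (∀ g ∈ w, g ∈ letters) → ∀ i : Fin 100, ((wM w).val i).val = app w i.val
  | [], _, i => rfl
  | g :: w, hw, i => by
    have h := wM_val w (fun x hx => hw x (List.mem_cons_of_mem _ hx)) i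
    show (permV g ((wM w).val i)).val = pApp g (app w i.val)
    rw [permV_val (hw g (List.mem_cons_self ..)), h]

/-- Two words act alike. -/
def sameW (u v : List ℕ) : Bool :=
  u.all (fun g => letters.contains g) && v.all (fun g => letters.contains g) &&
    (List.range 100).all fun i => Nat.beq (app u i) (app v i)

theorem wM_eq {u v : List ℕ} (h : sameW u v = true) : wM u = wM v := by
  simp only [sameW, Bool.and_eq_true, List.all_eq_true, List.contains_iff_mem, List.mem_range] at h
  refine Subtype.ext (Equiv.ext fun i => Fin.ext ?_)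
  rw [wM_val u h.1.1, wM_val v h.1.2]
  exact Nat.eq_of_beq_eq_true (h.2 i.val i.isLt)

theorem wM_append (u v : List ℕ) : wM (u ++ v) = wM u * wM v := by simp [wM]

theorem wM_single (g : ℕ) : wM [g] = vM g := by simp [wM]

theorem q_check : (List.range 64).all (fun r => qGens.all fun g => sameW (hWord r ++ [g]) (hWord (hQ r g))) = true := by
  decide +kernel

theorem act_check : ([64, 128] : List ℕ).all (fun g => qGens.all fun j =>
    sameW [g, j] (hWord (actC (g / 64) j) ++ [g])) = true := by decide +kernel

theorem cay_check : (List.range 120).all (fun k => ([64, 128] : List ℕ).all fun g =>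
    sameW (wordT.getD k [] ++ [g])
      (hWord (cocC k (g / 64) % 64) ++ wordT.getD (cocC k (g / 64) / 64) [])) = true := by decide +kernel

theorem rulesM : GenRules vM where
  q r hr g hg := by
    have h := wM_eq (List.all_eq_true.1 (List.all_eq_true.1 q_check r (List.mem_range.2 hr)) g hg)
    rw [wM_append, wM_single] at h
    exact h
  act g hg j hj := by
    have h := wM_eq (List.all_eq_true.1 (List.all_eq_true.1 act_check g hg) j hj)
    rw [wM_append, wM_single, show ([g, j] : List ℕ) = [g] ++ [j] from rfl, wM_append, wM_single, wM_single] at h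
    exact h
  cay k hk g hg := by
    have h := wM_eq (List.all_eq_true.1 (List.all_eq_true.1 cay_check k (List.mem_range.2 hk)) g hg)
    rw [wM_append, wM_single, wM_append] at h
    exact h

/-- The coded centraliser in the group of the graph. -/
noncomputable def elM (c : ℕ) : ↥HS.hsGroup := genEl vM c

theorem elM_eq (c : ℕ) : elM c = wM (hWord c) := rfl

/-- The label of the orbit of a point. -/
def lab (i : ℕ) : ℕ := orbLab.getD i 0

/-- The labels of the images of all points under a representative. -/
def repSig (k : ℕ) : List ℕ := ((List.range 100).filter fun i => Nat.beq (lab i) i).map fun i => lab (app (wordT.getD k []) i)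

/-- The images of the two separating points. -/
def qSig (r : ℕ) : List ℕ := qBase.map (app (hWord r))

theorem lab_check : qGens.all (fun g => (List.range 100).all fun i => Nat.beq (lab (pApp g i)) (lab i)) = true := by
  decide +kernel

theorem sig_nodup : ((List.range 120).map repSig).Nodup ∧ ((List.range 64).map qSig).Nodup := by decide +kernel

theorem qBase_lt : ∀ i ∈ qBase, i < 100 := by decide

theorem hWord_letters {c : ℕ} (hc : c < 7680) : ∀ g ∈ hWord c, g ∈ letters := by
  intro g hg
  rw [hWord_split, List.mem_append] at hg
  rcases hg with hg | hg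
  · exact (show ∀ x ∈ qGens, x ∈ letters by decide) g (hWord_q (Nat.mod_lt _ (by norm_num)) g hg)
  · rcases rep_letters (show c / 64 < 120 by omega) g hg with rfl | rfl <;> decide

theorem app_lt : ∀ (w : List ℕ), (∀ g ∈ w, g ∈ letters) → ∀ i < 100, app w i < 100 := fun w hw i hi => by
  have := ((wM w).val ⟨i, hi⟩).isLt
  rwa [wM_val w hw ⟨i, hi⟩] at this

theorem lab_word : ∀ (w : List ℕ), (∀ g ∈ w, g ∈ qGens) → ∀ i < 100, lab (app w i) = lab i
  | [], _, i, _ => rfl
  | g :: w, hw, i, hi => by
    have hl : ∀ x ∈ w, x ∈ letters := fun x hx =>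
      (show ∀ x ∈ qGens, x ∈ letters by decide) x (hw x (List.mem_cons_of_mem _ hx))
    have h := List.all_eq_true.1 (List.all_eq_true.1 lab_check g (hw g (List.mem_cons_self ..))) (app w i)
      (List.mem_range.2 (app_lt w hl i hi))
    show lab (pApp g (app w i)) = lab i
    rw [Nat.eq_of_beq_eq_true h, lab_word w (fun x hx => hw x (List.mem_cons_of_mem _ hx)) i hi]

theorem elM_inj {c d : ℕ} (hc : c < 7680) (hd : d < 7680) (h : elM c = elM d) : c = d := by
  have hpt : ∀ i < 100, app (hWord c) i = app (hWord d) i := fun i hi => by
    rw [← wM_val _ (hWord_letters hc) ⟨i, hi⟩, ← wM_val _ (hWord_letters hd) ⟨i, hi⟩]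
    exact congrArg (fun z : ↥HS.hsGroup => (z.val ⟨i, hi⟩).val) h
  have hlab : ∀ e < 7680, ∀ i < 100, lab (app (hWord e) i) = lab (app (wordT.getD (e / 64) []) i) := by
    intro e he i hi
    rw [hWord_split e, show app (hWord (e % 64) ++ wordT.getD (e / 64) []) i =
      app (hWord (e % 64)) (app (wordT.getD (e / 64) []) i) from List.foldr_append ..]
    refine lab_word _ (hWord_q (Nat.mod_lt _ (by norm_num))) _ (app_lt _ (fun g hg => ?_) i hi)
    rcases rep_letters (show e / 64 < 120 by omega) g hg with rfl | rfl <;> decide
  have hk : c / 64 = d / 64 := by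
    refine List.inj_on_of_nodup_map sig_nodup.1 (List.mem_range.2 (by omega)) (List.mem_range.2 (by omega)) ?_
    refine List.map_congr_left fun i hi => ?_
    have hi' : i < 100 := List.mem_range.1 (List.mem_filter.1 hi).1
    rw [← hlab c hc i hi', ← hlab d hd i hi', hpt i hi']
  have hq : elM (c % 64) = elM (d % 64) := by
    have e := h
    unfold elM at e ⊢
    rw [genEl_split vM c, genEl_split vM d, hk] at e
    exact mul_right_cancel e
  have hr : c % 64 = d % 64 := by
    refine List.inj_on_of_nodup_map sig_nodup.2 (List.mem_range.2 (by omega)) (List.mem_range.2 (by omega)) ?_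
    refine List.map_congr_left fun i hi => ?_
    rw [← wM_val _ (hWord_letters (by omega)) ⟨i, qBase_lt i hi⟩, ← wM_val _ (hWord_letters (by omega)) ⟨i, qBase_lt i hi⟩]
    exact congrArg (fun z : ↥HS.hsGroup => (z.val ⟨i, qBase_lt i hi⟩).val) hq
  omega

/-- The exchanging element in the group of the graph. -/
noncomputable def nM : ↥HS.hsGroup := vM 256

/-- A word of letters and codes as one word. -/
def flatW : List Tok → List ℕ
  | [] => []
  | .c x :: w => hWord x ++ flatW w
  | .s _ :: w => 256 :: flatW w

theorem wEval_flat (D : Data) (hK : D.K = 1) : ∀ (w : List Tok), (∀ x ∈ w, ∀ k, x = Tok.s k → k = 0) →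
    wEval D elM (fun _ => nM) w = wM (flatW w)
  | [], _ => rfl
  | x :: w, hw => by
    have h := wEval_flat D hK w fun y hy => hw y (List.mem_cons_of_mem _ hy)
    have hc : wEval D elM (fun _ => nM) (x :: w) = tokEl D elM (fun _ => nM) x * wEval D elM (fun _ => nM) w := by
      simp [wEval]
    rw [hc, h]
    cases x with
    | c a =>
      show elM a * wM (flatW w) = wM (hWord a ++ flatW w)
      rw [wM_append, elM_eq]
    | s k =>
      obtain rfl := hw _ (List.mem_cons_self ..) k rfl
      show tokEl D elM (fun _ => nM) (.s 0) * wM (flatW w) = wM ([256] ++ flatW w)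
      rw [wM_append, wM_single]
      simp [tokEl, sx, hK, nM]

/-- Is every letter of the word a code or the extra element itself? -/
def plainW (w : List Tok) : Bool := w.all fun x => match x with | .c _ => true | .s k => Nat.beq k 0

theorem full_check : (fullD.rels.all (fun w => plainW w && sameW (flatW w) []) &&
    dPairs.all fun x => sameW (256 :: hWord x.1) (hWord x.2 ++ [256])) = true := by decide +kernel

theorem fullD_mul0 : hMul 0 0 = 0 := by decide +kernel

/-- The group of the graph satisfies the relations. -/
theorem sysM : CodeCert.Sys fullD elM (fun _ => nM) where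
  pos := by show 0 < 7680; norm_num
  mul0 := fullD_mul0
  mul c d hc hd := (rulesM.el_mul hc hd).2
  lt c d hc hd := (rulesM.el_mul hc hd).1
  inj c d hc hd := elM_inj hc hd
  conj k hk x hx := by
    obtain rfl : k = 0 := Nat.lt_one_iff.1 hk
    have h := full_check
    simp only [Bool.and_eq_true, List.all_eq_true] at h
    have e := wM_eq (h.2 x hx)
    rw [show 256 :: hWord x.1 = [256] ++ hWord x.1 from rfl, wM_append, wM_append, wM_single] at e
    exact e
  rel w hw := by
    have h := full_check
    simp only [Bool.and_eq_true, List.all_eq_true] at h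
    obtain ⟨h1, h2⟩ := h.1 w hw
    rw [wEval_flat fullD rfl w (fun x hx k hk => ?_), wM_eq h2]
    · rfl
    · subst hk
      exact Nat.eq_of_beq_eq_true (List.all_eq_true.1 h1 _ hx)

end CfsgLib.HSRec.Cert
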